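import Groth.Agent.GLinCST.Graded
import Mathlib.LinearAlgebra.FiniteDimensional.Lemmas

/-!
# Chevalley's lemma for groups generated by pseudo-reflections
-/

namespace Groth.Agent.GLinCST

open TensorProduct HopfRep Groth.Agent.ComodBasic MvPolynomial WithConv

universe u w

variable {k : Type u} [Field k] {A : Type u} [CommRing A] [HopfAlgebra k A]

theorem finite_linForms {ι : Type w} [Fintype ι] : Module.Finite k (GLin.linForms k ι) := by
  rw [GLin.linForms, homogeneousSubmodule_one_eq_span_X]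
  exact Module.Finite.span_of_finite k (Set.finite_range _)

theorem slice_tmul_one_mul {R : Type*} [CommRing R] [Algebra k R] {B : Type*} [CommRing B] [Algebra k B]
    (φ : B →ₗ[k] k) (r : R) (z : R ⊗[k] B) : slice φ ((r ⊗ₜ[k] (1 : B)) * z) = r * slice φ z := by
  induction z using TensorProduct.induction_on with
  | zero => simp
  | add a b ha hb => simp only [mul_add, map_add, ha, hb]
  | tmul a b => simp

variable {ι : Type w} [Fintype ι] [HopfRep.Comod k A (MvPolynomial ι k)] [GLin.IsCoactAlg k A (MvPolynomial ι k)]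
variable (hlin : GLin.IsLinear k A ι)
include hlin

/-- A pseudo-reflection moves every function by a multiple of its linear form. -/
theorem exists_reflection_form (hsub : ∀ (I : Ideal A) [I.IsHopfIdeal k], IsLinearlyReductive k (A ⧸ I))
    {I : Ideal A} (hI : GLin.IsPseudoRefl k A ι I) :
    ∃ l : MvPolynomial ι k, l ≠ 0 ∧ l.IsHomogeneous 1 ∧ ∀ f : MvPolynomial ι k, ∃ D : MvPolynomial ι k ⊗[k] (A ⧸ I),
      LinearMap.lTensor (MvPolynomial ι k) (Ideal.Quotient.mkₐ k I).toLinearMap (Comod.coact (k := k) (A := A) f) -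
        f ⊗ₜ[k] (1 : A ⧸ I) = (l ⊗ₜ[k] (1 : A ⧸ I)) * D := by
  classical
  obtain ⟨hIH, hrank⟩ := hI
  letI cI : Comod k (A ⧸ I) (MvPolynomial ι k) :=
    GLin.comodAlong (Bialgebra.Quotient.mkBialgHom (R := k) I) (inferInstance : Comod k A (MvPolynomial ι k))
  have hcI : ∀ f : MvPolynomial ι k, Comod.coact (k := k) (A := A ⧸ I) f =
      LinearMap.lTensor (MvPolynomial ι k) (Ideal.Quotient.mkₐ k I).toLinearMap (Comod.coact (k := k) (A := A) f) :=
    fun _ => rfl
  haveI : IsSemisimpleModule (Cv k (A ⧸ I)) (MvPolynomial ι k) :=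
    isSemisimpleModule_of_finite (fun M _ _ _ h => hsub I M h) _
  let L1 : Submodule (Cv k (A ⧸ I)) (MvPolynomial ι k) :=
    { (GLin.linForms k ι).toAddSubmonoid with
      smul_mem' := fun φ f hf => by
        show φ • f ∈ GLin.linForms k ι
        rw [smul_def, act_apply, hcI, slice_lTensor]
        exact slice_coact_isHomogeneous (A := A) hlin hf _ }
  let W := L1 ⊓ fixedSub k (A ⧸ I) (MvPolynomial ι k)
  obtain ⟨C, hC⟩ := exists_isCompl W
  let L := C ⊓ L1
  have hsup : W ⊔ L = L1 := by
    rw [← sup_inf_assoc_of_le C (inf_le_left : W ≤ L1), hC.sup_eq_top, top_inf_eq]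
  have hinf : W ⊓ L = ⊥ := eq_bot_iff.2 fun x hx => hC.inf_eq_bot.le ⟨hx.1, hx.2.1⟩
  have hW : W.restrictScalars k = GLin.linForms k ι ⊓ GLin.quotInvariants k A (MvPolynomial ι k) I :=
    Submodule.ext fun x => Iff.rfl
  have hL1 : L1.restrictScalars k = GLin.linForms k ι := Submodule.ext fun x => Iff.rfl
  haveI := finite_linForms (k := k) (ι := ι)
  haveI : Module.Finite k (W.restrictScalars k) := by rw [hW]; exact Submodule.finiteDimensional_inf_left _ _
  haveI : Module.Finite k (L.restrictScalars k) :=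
    Submodule.finiteDimensional_of_le (show L.restrictScalars k ≤ GLin.linForms k ι from fun x hx => hx.2)
  have hL : Module.finrank k (L.restrictScalars k) = 1 := by
    have h := Submodule.finrank_sup_add_finrank_inf_eq (W.restrictScalars k) (L.restrictScalars k)
    rw [← Submodule.restrictScalars_sup, hsup, ← Submodule.restrictScalars_inf, hinf, Submodule.restrictScalars_bot,
      finrank_bot, hL1, hW] at h
    omega
  obtain ⟨l, hl0, hspan⟩ := finrank_eq_one_iff'.1 hL
  have hlL : (l : MvPolynomial ι k) ∈ L := l.2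
  have hlne : (l : MvPolynomial ι k) ≠ 0 := fun h => hl0 (Subtype.ext h)
  have hspan' : ∀ x ∈ L, ∃ c : k, c • (l : MvPolynomial ι k) = x := fun x hx => by
    obtain ⟨c, hc⟩ := hspan ⟨x, hx⟩
    exact ⟨c, congrArg Subtype.val hc⟩
  refine ⟨l, hlne, hlL.2, fun f => ?_⟩
  let J : Ideal (MvPolynomial ι k ⊗[k] (A ⧸ I)) := Ideal.span {(l : MvPolynomial ι k) ⊗ₜ[k] (1 : A ⧸ I)}
  -- the eigenvalue of the form
  obtain ⟨z, hz⟩ := (isSubcomod_restrict L) (l : MvPolynomial ι k) hlL
  have hchi : ∃ c : A ⧸ I, Comod.coact (k := k) (A := A ⧸ I) (l : MvPolynomial ι k) = (l : MvPolynomial ι k) ⊗ₜ[k] c := by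
    rw [← hz]
    clear hz
    induction z using TensorProduct.induction_on with
    | zero => exact ⟨0, by simp⟩
    | add a b ha hb =>
      obtain ⟨c, hc⟩ := ha
      obtain ⟨c', hc'⟩ := hb
      exact ⟨c + c', by rw [map_add, hc, hc', TensorProduct.tmul_add]⟩
    | tmul a b =>
      obtain ⟨c, hc⟩ := hspan' a a.2
      exact ⟨c • b, by rw [LinearMap.rTensor_tmul, Submodule.subtype_apply, ← hc, TensorProduct.smul_tmul]⟩
  obtain ⟨χ, hχ⟩ := hchi
  let ρI : MvPolynomial ι k →ₐ[k] MvPolynomial ι k ⊗[k] (A ⧸ I) :=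
    (Algebra.TensorProduct.map (AlgHom.id k _) (Ideal.Quotient.mkₐ k I)).comp (GLin.coactAlgHom k A (MvPolynomial ι k))
  have hρI : ∀ g, ρI g = Comod.coact (k := k) (A := A ⧸ I) g := fun g => rfl
  have hlin' : ∀ g ∈ L1, Ideal.Quotient.mk J (ρI g) = Ideal.Quotient.mk J (g ⊗ₜ[k] (1 : A ⧸ I)) := by
    intro g hg
    rw [← hsup] at hg
    obtain ⟨w, hw, x, hx, rfl⟩ := Submodule.mem_sup.1 hg
    obtain ⟨c, rfl⟩ := hspan' x hx
    rw [Ideal.Quotient.eq, hρI, map_add, map_smul, show Comod.coact (k := k) (A := A ⧸ I) w = w ⊗ₜ[k] (1 : A ⧸ I) from hw.2,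
      hχ, TensorProduct.add_tmul, add_sub_add_left_eq_sub, TensorProduct.smul_tmul', ← TensorProduct.tmul_sub]
    refine Ideal.mem_span_singleton'.2 ⟨(MvPolynomial.C c : MvPolynomial ι k) ⊗ₜ[k] (χ - 1), ?_⟩
    rw [Algebra.TensorProduct.tmul_mul_tmul, mul_one, ← MvPolynomial.smul_eq_C_mul]
  have heq : (Ideal.Quotient.mkₐ k J).comp ρI =
      (Ideal.Quotient.mkₐ k J).comp (Algebra.TensorProduct.includeLeft : _ →ₐ[k] MvPolynomial ι k ⊗[k] (A ⧸ I)) :=
    MvPolynomial.algHom_ext fun i => hlin' (X i) (isHomogeneous_X k i)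
  have h1 := AlgHom.congr_fun heq f
  obtain ⟨D, hD⟩ := Ideal.mem_span_singleton'.1 (Ideal.Quotient.eq.1 h1)
  exact ⟨D, by rw [mul_comm, hD]; rfl⟩

/-- Chevalley's lemma. -/
theorem mem_posIdeal_of_relation (hG : IsLinearlyReductive k A)
    (hsub : ∀ (I : Ideal A) [I.IsHopfIdeal k], IsLinearlyReductive k (A ⧸ I))
    (hgen : GLin.IsGenByPseudoRefl k A ι) : ∀ (e : ℕ) {m : ℕ} (y h : Fin (m + 1) → MvPolynomial ι k),
      (∀ j, y j ∈ GLin.invariants k A (MvPolynomial ι k)) →
      (∀ c : Fin m → MvPolynomial ι k, (∀ j, c j ∈ GLin.invariants k A (MvPolynomial ι k)) →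
        y 0 ≠ ∑ j, c j * y j.succ) →
      ∑ j, y j * h j = 0 → (h 0).IsHomogeneous e → h 0 ∈ posIdeal k A ι := by
  haveI : IsSemisimpleModule (Cv k A) (MvPolynomial ι k) := isSemisimpleModule_of_finite hG _
  haveI := isHopfMod_self (k := k) (A := A) (R := MvPolynomial ι k)
  intro e
  induction e with
  | zero =>
    intro m y h hy hne hsum hh
    obtain ⟨E, hE, hE'⟩ := exists_reynolds (k := k) (A := A) (MvPolynomial ι k)
    have hc : h 0 = C (coeff 0 (h 0)) := by
      conv_lhs => rw [← homogeneousComponent_of_mem (m := 0) hh |>.trans (if_pos rfl), homogeneousComponent_zero]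
    by_cases hc0 : coeff 0 (h 0) = 0
    · rw [hc, hc0, map_zero]; exact zero_mem _
    exfalso
    set c := coeff 0 (h 0) with hcdef
    refine hne (fun j => -(c⁻¹ • E (h j.succ))) (fun j => ?_) ?_
    · exact neg_mem (Subalgebra.smul_mem _ (hE _) _)
    have hmulfix : ∀ j g, E (y j * g) = y j * E g := fun j g => by
      have h' := proj_fixed_smul (R := MvPolynomial ι k) E hE hE' (hy j) g
      simpa only [smul_eq_mul] using h'
    have h1 := congrArg E hsum
    rw [map_sum, map_zero, Fin.sum_univ_succ] at h1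
    simp only [hmulfix] at h1
    have h2 : E (h 0) = h 0 := hE' _ (by
      show Comod.coact (k := k) (A := A) (h 0) = (h 0) ⊗ₜ[k] (1 : A)
      rw [hc]
      exact (Subalgebra.algebraMap_mem (GLin.invariants k A (MvPolynomial ι k)) c))
    rw [h2, hc, add_eq_zero_iff_eq_neg] at h1
    have h3 := congrArg (fun g => c⁻¹ • g) h1
    simp only [smul_neg, Finset.smul_sum] at h3
    rw [mul_comm, ← MvPolynomial.smul_eq_C_mul, smul_smul, inv_mul_cancel₀ hc0, one_smul] at h3
    rw [h3]
    rw [← Finset.sum_neg_distrib]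
    exact Finset.sum_congr rfl fun j _ => by rw [neg_mul, smul_mul_assoc, mul_comm]
  | succ e ih =>
    intro m y h hy hne hsum hh
    -- the class of `h 0` is fixed
    let N : Submodule (MvPolynomial ι k) (MvPolynomial ι k) := posIdeal k A ι
    letI cq : Comod k A (MvPolynomial ι k ⧸ N) := quotComod N (isSubcomod_posIdeal (k := k) (A := A) (ι := ι))
    let π : MvPolynomial ι k →ₗ[Cv k A] MvPolynomial ι k ⧸ N :=
      toLin (N.mkQ.restrictScalars k) (isComodHom_quotComod_mkQ N (isSubcomod_posIdeal (k := k) (A := A) (ι := ι)))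
    have hfix : π (h 0) ∈ fixedPts k A (MvPolynomial ι k ⧸ N) := by
      refine mem_fixedPts_of_generated (k := k) (P := GLin.IsPseudoRefl k A ι) hgen fun I hI => ?_
      obtain ⟨l, hl0, hl1, hl⟩ := exists_reflection_form hlin hsub hI
      choose D hD using hl
      rw [GLin.mem_quotInvariants_iff, ← sub_eq_zero]
      refine eq_zero_of_slice _ fun φ => ?_
      have hcm : Comod.coact (k := k) (A := A) (π (h 0)) =
          (N.mkQ.restrictScalars k).rTensor A (Comod.coact (k := k) (A := A) (h 0)) :=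
        quotComod_coact_mk N _ (h 0)
      rw [map_sub, slice_tmul, slice_lTensor, hcm, slice_rTensor, ← slice_lTensor]
      show N.mkQ _ - φ 1 • N.mkQ (h 0) = 0
      rw [← LinearMap.map_smul_of_tower, ← map_sub, Submodule.mkQ_apply, Submodule.Quotient.mk_eq_zero,
        ← slice_tmul φ (h 0) (1 : A ⧸ I), ← map_sub, hD, slice_tmul_one_mul]
      refine Ideal.mul_mem_left (posIdeal k A ι) l ?_
      refine ih y (fun j => slice φ (D (h j))) hy hne ?_ ?_
      · have hρy : ∀ j g, (LinearMap.lTensor (MvPolynomial ι k) (Ideal.Quotient.mkₐ k I).toLinearMap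
            (Comod.coact (k := k) (A := A) (y j * g)) - (y j * g) ⊗ₜ[k] (1 : A ⧸ I)) =
            (y j ⊗ₜ[k] (1 : A ⧸ I)) * ((l ⊗ₜ[k] (1 : A ⧸ I)) * D g) := by
          intro j g
          rw [← hD g, mul_sub, Algebra.TensorProduct.tmul_mul_tmul, one_mul]
          congr 1
          let mp := Algebra.TensorProduct.map (AlgHom.id k (MvPolynomial ι k)) (Ideal.Quotient.mkₐ k I)
          change mp (Comod.coact (k := k) (A := A) (y j * g)) = _ * mp (Comod.coact (k := k) (A := A) g)
          rw [GLin.IsCoactAlg.coact_mul, (GLin.mem_invariants_iff k A _ (y j)).1 (hy j), map_mul,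
            Algebra.TensorProduct.map_tmul, AlgHom.coe_id, id_eq, map_one]
        have h1 := Finset.sum_congr (s₁ := Finset.univ) rfl fun j (_ : j ∈ Finset.univ) =>
          congrArg (slice φ) (hρy j (h j))
        rw [← map_sum, Finset.sum_sub_distrib, ← map_sum, ← map_sum, ← TensorProduct.sum_tmul, hsum, map_zero,
          map_zero, TensorProduct.zero_tmul, sub_zero, map_zero] at h1
        simp only [slice_tmul_one_mul, mul_left_comm _ l, ← Finset.mul_sum] at h1
        exact (mul_eq_zero.1 h1.symm).resolve_left hl0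
      · set g := slice φ (D (h 0)) with hg
        have hlg : (g * l).IsHomogeneous (e + 1) := by
          rw [mul_comm, hg, ← slice_tmul_one_mul, ← hD, map_sub, slice_lTensor, slice_tmul]
          exact (homogeneousSubmodule ι k (e + 1)).sub_mem (slice_coact_isHomogeneous (A := A) hlin hh _)
            ((homogeneousSubmodule ι k (e + 1)).smul_mem _ hh)
        have h2 := homogeneousComponent_mul_right (f := g) hl1 (e + 1)
        rw [homogeneousComponent_of_mem hlg, if_pos rfl, if_pos (by omega), Nat.add_sub_cancel] at h2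
        rw [mul_right_cancel₀ hl0 h2]
        exact homogeneousComponent_isHomogeneous e g
    obtain ⟨v, hv, hπv⟩ := exists_fixed_lift π (N.mkQ_surjective) hfix
    have h1 : homogeneousComponent (e + 1) (v - h 0) ∈ posIdeal k A ι :=
      homogeneousComponent_mem_posIdeal ((Submodule.Quotient.eq N).1 hπv) _
    have h2 : homogeneousComponent (e + 1) v ∈ posIdeal k A ι :=
      Ideal.subset_span ⟨homogeneousComponent_mem_invariants hlin hv _, e + 1, Nat.succ_pos e,
        homogeneousComponent_isHomogeneous _ _⟩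
    have h3 : homogeneousComponent (e + 1) (h 0) = h 0 := by
      rw [homogeneousComponent_of_mem hh, if_pos rfl]
    rw [map_sub, h3] at h1
    simpa using sub_mem h2 h1

end Groth.Agent.GLinCST
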