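import Groth.Agent.ComodBasic.Reductive
import Groth.Prelude.Def_W4c6stackyreslrsPsRefl
import Groth.Prelude.Def_GLin2
import Mathlib.RingTheory.HopfAlgebra.Quotient

/-!
# The stabilizer ideal of a vector is a Hopf ideal
-/

namespace Groth.Agent.GLinCST

open TensorProduct HopfRep Groth.Agent.ComodBasic CoalgebraStruct

universe u v w

variable {k : Type u} [Field k] {A : Type v} [CommRing A] [HopfAlgebra k A]
variable {V : Type w} [AddCommGroup V] [Module k V] [Comod k A V]

variable (k) in
/-- The ideal of the stabilizer of a vector. -/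
noncomputable def fixIdeal (v : V) : Ideal A :=
  Ideal.span (Set.range fun ξ : V →ₗ[k] k => lslice ξ (Comod.coact (k := k) (A := A) v - v ⊗ₜ[k] (1 : A)))

theorem mem_quotInvariants_iff_fixIdeal_le {I : Ideal A} {v : V} :
    v ∈ GLin.quotInvariants k A V I ↔ fixIdeal k (A := A) v ≤ I := by
  rw [GLin.mem_quotInvariants_iff, ← sub_eq_zero, fixIdeal, Ideal.span_le]
  have e : LinearMap.lTensor V (Ideal.Quotient.mkₐ k I).toLinearMap (Comod.coact (k := k) (A := A) v) -
      v ⊗ₜ[k] (1 : A ⧸ I) =
      LinearMap.lTensor V (Ideal.Quotient.mkₐ k I).toLinearMap (Comod.coact (k := k) (A := A) v - v ⊗ₜ[k] (1 : A)) := by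
    rw [map_sub, LinearMap.lTensor_tmul, AlgHom.toLinearMap_apply, map_one]
  rw [e]
  constructor
  · rintro h _ ⟨ξ, rfl⟩
    have h1 := congrArg (lslice ξ) h
    rw [lslice_lTensor, map_zero] at h1
    exact Ideal.Quotient.eq_zero_iff_mem.1 h1
  · intro h
    refine eq_zero_of_lslice _ fun ξ => ?_
    rw [lslice_lTensor]
    exact Ideal.Quotient.eq_zero_iff_mem.2 (h ⟨ξ, rfl⟩)

/-- Closed subgroups fixing a vector form a group. -/
theorem isHopfIdeal_fixIdeal (v : V) : (fixIdeal k (A := A) v).IsHopfIdeal k := by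
  set I := fixIdeal k (A := A) v with hI
  set mk := Ideal.Quotient.mkₐ k I with hmk
  have hv : LinearMap.lTensor V mk.toLinearMap (Comod.coact (k := k) (A := A) v) = v ⊗ₜ[k] (1 : A ⧸ I) :=
    mem_quotInvariants_iff_fixIdeal_le.2 le_rfl
  have hco := LinearMap.congr_fun (Comod.coassoc (k := k) (A := A) (V := V)) v
  simp only [LinearMap.comp_apply, LinearEquiv.coe_coe] at hco
  -- comultiplication
  have hΔ : ∀ ξ : V →ₗ[k] k,
      TensorProduct.map mk.toLinearMap mk.toLinearMap (comul (R := k) (lslice ξ (Comod.coact (k := k) (A := A) v))) =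
        ξ v • ((1 : A ⧸ I) ⊗ₜ[k] (1 : A ⧸ I)) := by
    intro ξ
    let mm := TensorProduct.map mk.toLinearMap mk.toLinearMap
    have key : ∀ z : V ⊗[k] A, (TensorProduct.assoc k V (A ⧸ I) (A ⧸ I))
          (TensorProduct.map (LinearMap.lTensor V mk.toLinearMap ∘ₗ Comod.coact (k := k) (A := A)) mk.toLinearMap z) =
        mm.lTensor V ((TensorProduct.assoc k V A A) ((Comod.coact (k := k) (A := A)).rTensor A z)) := by
      intro z
      induction z using TensorProduct.induction_on with
      | zero => simp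
      | add x y hx hy => simp only [map_add, hx, hy]
      | tmul x a =>
        simp only [TensorProduct.map_tmul, LinearMap.comp_apply, LinearMap.rTensor_tmul]
        generalize Comod.coact (k := k) (A := A) x = w
        induction w using TensorProduct.induction_on with
        | zero => simp
        | add p q hp hq => simp only [map_add, TensorProduct.add_tmul, hp, hq]
        | tmul p b => simp [mm]
    have h1 : mm.lTensor V ((comul (R := k)).lTensor V (Comod.coact (k := k) (A := A) v)) =
        v ⊗ₜ[k] ((1 : A ⧸ I) ⊗ₜ[k] (1 : A ⧸ I)) := by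
      rw [← hco, ← key]
      have h2 : TensorProduct.map (LinearMap.lTensor V mk.toLinearMap ∘ₗ Comod.coact (k := k) (A := A)) mk.toLinearMap
          (Comod.coact (k := k) (A := A) v) =
          (LinearMap.lTensor V mk.toLinearMap ∘ₗ Comod.coact (k := k) (A := A)).rTensor (A ⧸ I)
            (LinearMap.lTensor V mk.toLinearMap (Comod.coact (k := k) (A := A) v)) := by
        rw [← LinearMap.comp_apply (LinearMap.rTensor _ _), LinearMap.rTensor_comp_lTensor]
      rw [h2, hv, LinearMap.rTensor_tmul, LinearMap.comp_apply, hv, TensorProduct.assoc_tmul]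
    have h3 := congrArg (lslice ξ) h1
    rw [lslice_lTensor, lslice_lTensor, lslice_tmul] at h3
    exact h3
  let Φ : A →ₐ[k] (A ⧸ I) ⊗[k] (A ⧸ I) := (Algebra.TensorProduct.map mk mk).comp (Bialgebra.comulAlgHom k A)
  have hgen : ∀ ξ : V →ₗ[k] k, lslice ξ (Comod.coact (k := k) (A := A) v - v ⊗ₜ[k] (1 : A)) =
      lslice ξ (Comod.coact (k := k) (A := A) v) - ξ v • (1 : A) := fun ξ => by rw [map_sub, lslice_tmul]
  have hker : I ≤ RingHom.ker Φ := Ideal.span_le.2 (by
    rintro _ ⟨ξ, rfl⟩
    rw [SetLike.mem_coe, RingHom.mem_ker]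
    dsimp only
    rw [hgen, map_sub, map_smul, map_one, sub_eq_zero]
    exact hΔ ξ)
  have hcounit : I ≤ RingHom.ker (Bialgebra.counitAlgHom k A) := Ideal.span_le.2 (by
    rintro _ ⟨ξ, rfl⟩
    rw [SetLike.mem_coe, RingHom.mem_ker]
    dsimp only
    rw [hgen, map_sub, map_smul, map_one, sub_eq_zero, smul_eq_mul, mul_one]
    have h := congrArg (lslice ξ) (LinearMap.congr_fun (Comod.counit_comp (k := k) (A := A) (V := V)) v)
    rw [LinearMap.comp_apply, lslice_lTensor, LinearMap.flip_apply, TensorProduct.mk_apply, lslice_tmul,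
      smul_eq_mul, mul_one] at h
    exact h)
  -- antipode
  let mS : A →ₗ[k] A ⧸ I := mk.toLinearMap ∘ₗ HopfAlgebra.antipode k
  have hS : ∀ ξ : V →ₗ[k] k, mS (lslice ξ (Comod.coact (k := k) (A := A) v)) = ξ v • (1 : A ⧸ I) := by
    intro ξ
    let h0 : A ⊗[k] A →ₗ[k] A ⧸ I := LinearMap.mul' k (A ⧸ I) ∘ₗ TensorProduct.map mS mk.toLinearMap
    let Ψ : V ⊗[k] (A ⧸ I) →ₗ[k] V ⊗[k] (A ⧸ I) :=
      (LinearMap.mul' k (A ⧸ I)).lTensor V ∘ₗ (TensorProduct.assoc k V (A ⧸ I) (A ⧸ I)).toLinearMap ∘ₗ
        (mS.lTensor V ∘ₗ Comod.coact (k := k) (A := A)).rTensor (A ⧸ I)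
    have key : ∀ z : V ⊗[k] A, Ψ (LinearMap.lTensor V mk.toLinearMap z) =
        h0.lTensor V ((TensorProduct.assoc k V A A) ((Comod.coact (k := k) (A := A)).rTensor A z)) := by
      intro z
      induction z using TensorProduct.induction_on with
      | zero => simp
      | add x y hx hy => simp only [map_add, hx, hy]
      | tmul x a =>
        simp only [Ψ, LinearMap.comp_apply, LinearMap.lTensor_tmul, LinearMap.rTensor_tmul, LinearEquiv.coe_coe]
        generalize Comod.coact (k := k) (A := A) x = w
        induction w using TensorProduct.induction_on with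
        | zero => simp
        | add p q hp hq => simp only [map_add, TensorProduct.add_tmul, hp, hq]
        | tmul p b => simp [h0]
    have h0eq : h0 ∘ₗ comul (R := k) = LinearMap.toSpanSingleton k (A ⧸ I) 1 ∘ₗ counit := by
      refine LinearMap.ext fun a => ?_
      have h := congrArg mk (HopfAlgebra.mul_antipode_rTensor_comul_apply (R := k) a)
      rw [AlgHom.commutes, Algebra.algebraMap_eq_smul_one] at h
      simp only [LinearMap.comp_apply, LinearMap.toSpanSingleton_apply]
      rw [← h]
      generalize comul (R := k) a = w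
      induction w using TensorProduct.induction_on with
      | zero => simp
      | add p q hp hq => simp only [map_add, hp, hq]
      | tmul p b => simp [h0, mS]
    have h1 : Ψ (v ⊗ₜ[k] (1 : A ⧸ I)) = v ⊗ₜ[k] (1 : A ⧸ I) := by
      rw [← hv, key, hco, ← LinearMap.lTensor_comp_apply, h0eq, LinearMap.lTensor_comp_apply]
      have h := LinearMap.congr_fun (Comod.counit_comp (k := k) (A := A) (V := V)) v
      rw [LinearMap.comp_apply] at h
      rw [h]
      simp [hv]
    have h2 : Ψ (v ⊗ₜ[k] (1 : A ⧸ I)) = mS.lTensor V (Comod.coact (k := k) (A := A) v) := by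
      simp only [Ψ, LinearMap.comp_apply, LinearMap.rTensor_tmul, LinearEquiv.coe_coe]
      generalize mS.lTensor V (Comod.coact (k := k) (A := A) v) = w
      induction w using TensorProduct.induction_on with
      | zero => simp
      | add p q hp hq => simp only [map_add, TensorProduct.add_tmul, hp, hq]
      | tmul p b => simp
    have h3 := congrArg (lslice ξ) (h2.symm.trans h1)
    rw [lslice_lTensor, lslice_tmul] at h3
    exact h3
  have hSI : I ≤ RingHom.ker (mk.comp (HopfAlgebra.antipodeAlgHom k A)) := Ideal.span_le.2 (by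
    rintro _ ⟨ξ, rfl⟩
    rw [SetLike.mem_coe, RingHom.mem_ker]
    dsimp only
    rw [hgen, map_sub, map_smul, map_one, sub_eq_zero]
    exact hS ξ)
  exact
    { counit_eq_zero := fun x hx => by
        have h := hcounit hx
        rw [RingHom.mem_ker] at h
        exact h
      map_mkQ_comul_eq_zero := fun x hx => by
        have h := RingHom.mem_ker.1 (hker hx)
        let e : (A ⧸ I) →ₗ[k] A ⧸ I.restrictScalars k := (Submodule.Quotient.restrictScalarsEquiv k I).symm.toLinearMap
        have he : (I.restrictScalars k).mkQ = e ∘ₗ mk.toLinearMap := rfl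
        rw [he, TensorProduct.map_comp, LinearMap.comp_apply]
        exact (congrArg (TensorProduct.map e e) h).trans (map_zero _)
      antipode_mem := fun x hx => Ideal.Quotient.eq_zero_iff_mem.1 (RingHom.mem_ker.1 (hSI hx)) }

/-- Vectors fixed by a family of subgroups are fixed by the group they generate. -/
theorem quotInvariants_sSup_eq (P : Ideal A → Prop) :
    GLin.quotInvariants k A V (sSup {J : Ideal A | J.IsHopfIdeal k ∧ ∀ I : Ideal A, P I → J ≤ I}) =
      ⨅ (I : Ideal A) (_ : P I), GLin.quotInvariants k A V I := by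
  refine le_antisymm (le_iInf₂ fun I hI v hv => ?_) fun v hv => ?_
  · rw [mem_quotInvariants_iff_fixIdeal_le] at hv ⊢
    exact hv.trans (sSup_le fun J hJ => hJ.2 I hI)
  · rw [mem_quotInvariants_iff_fixIdeal_le]
    refine le_sSup (show fixIdeal k v ∈ {J : Ideal A | J.IsHopfIdeal k ∧ ∀ I : Ideal A, P I → J ≤ I} from ⟨isHopfIdeal_fixIdeal v, fun I hI => ?_⟩)
    rw [← mem_quotInvariants_iff_fixIdeal_le]
    simp only [Submodule.mem_iInf] at hv
    exact hv I hI

/-- Fixed by every generator, hence fixed. -/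
theorem mem_fixedPts_of_generated {P : Ideal A → Prop}
    (hP : sSup {J : Ideal A | J.IsHopfIdeal k ∧ ∀ I : Ideal A, P I → J ≤ I} = ⊥) {v : V}
    (hv : ∀ I, P I → v ∈ GLin.quotInvariants k A V I) : v ∈ fixedPts k A V := by
  have h : v ∈ GLin.quotInvariants k A V (sSup {J : Ideal A | J.IsHopfIdeal k ∧ ∀ I : Ideal A, P I → J ≤ I}) := by
    rw [quotInvariants_sSup_eq]
    simpa only [Submodule.mem_iInf] using hv
  rw [hP, GLin.mem_quotInvariants_iff] at h
  show Comod.coact (k := k) (A := A) v = v ⊗ₜ[k] (1 : A)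
  refine (LinearEquiv.lTensor V (AlgEquiv.quotientBot k A).symm.toLinearEquiv).injective ?_
  rw [LinearEquiv.lTensor_tmul]
  exact h.trans (by simp)

end Groth.Agent.GLinCST
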