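import Groth.Agent.GLinCST.Chevalley
import Mathlib.LinearAlgebra.Basis.Basic
import Mathlib.LinearAlgebra.Basis.VectorSpace

/-!
# The polynomial ring is free over the invariants
-/

namespace Groth.Agent.GLinCST

open TensorProduct HopfRep Groth.Agent.ComodBasic MvPolynomial

universe u w

variable {k : Type u} [Field k] {A : Type u} [CommRing A] [HopfAlgebra k A]
variable {ι : Type w} [Fintype ι] [HopfRep.Comod k A (MvPolynomial ι k)] [GLin.IsCoactAlg k A (MvPolynomial ι k)]
variable (hlin : GLin.IsLinear k A ι) (hG : IsLinearlyReductive k A)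
  (hsub : ∀ (I : Ideal A) [I.IsHopfIdeal k], IsLinearlyReductive k (A ⧸ I))
  (hgen : GLin.IsGenByPseudoRefl k A ι)
include hlin hG hsub hgen

theorem eq_zero_of_homogeneous_relation : ∀ {m : ℕ} (h : Fin m → MvPolynomial ι k) (e : Fin m → ℕ),
    (∀ j, (h j).IsHomogeneous (e j)) → LinearIndependent k (fun j => Ideal.Quotient.mk (posIdeal k A ι) (h j)) →
    ∀ (N : ℕ) (y : Fin m → MvPolynomial ι k), (∀ j, y j ∈ GLin.invariants k A (MvPolynomial ι k)) →
      (∀ j, (y j).IsHomogeneous (N - e j)) → (∀ j, N < e j → y j = 0) → ∑ j, y j * h j = 0 → ∀ j, y j = 0 := by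
  intro m
  induction m with
  | zero => exact fun _ _ _ _ _ _ _ _ _ _ j => j.elim0
  | succ m ih =>
    intro h e hh hli N y hy hyh hy0 hsum
    by_cases hc : ∀ c : Fin m → MvPolynomial ι k, (∀ j, c j ∈ GLin.invariants k A (MvPolynomial ι k)) →
        y 0 ≠ ∑ j, c j * y j.succ
    · exact absurd (Ideal.Quotient.eq_zero_iff_mem.2
        (mem_posIdeal_of_relation hlin hG hsub hgen (e 0) y h hy hc hsum (hh 0))) (hli.ne_zero 0)
    obtain ⟨c, hc⟩ := not_forall.1 hc
    obtain ⟨hcinv, hcy⟩ := Classical.not_imp.1 hc
    rw [not_not] at hcy
    let c' : Fin m → MvPolynomial ι k := fun j =>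
      if e 0 ≤ e j.succ ∧ e 0 ≤ N then homogeneousComponent (e j.succ - e 0) (c j) else 0
    have hc'inv : ∀ j, c' j ∈ GLin.invariants k A (MvPolynomial ι k) := fun j => by
      dsimp only [c']
      split_ifs
      · exact homogeneousComponent_mem_invariants hlin (hcinv j) _
      · exact zero_mem _
    have hc'y : y 0 = ∑ j, c' j * y j.succ := by
      by_cases hN : e 0 ≤ N
      · have h1 := congrArg (homogeneousComponent (N - e 0)) hcy
        rw [homogeneousComponent_of_mem (hyh 0), if_pos rfl, map_sum] at h1
        rw [h1]
        refine Finset.sum_congr rfl fun j _ => ?_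
        by_cases hj : N < e j.succ
        · rw [hy0 _ hj, mul_zero, mul_zero, map_zero]
        rw [homogeneousComponent_mul_right (hyh j.succ)]
        dsimp only [c']
        by_cases hle : e 0 ≤ e j.succ
        · rw [if_pos (by omega), if_pos ⟨hle, hN⟩, show N - e 0 - (N - e j.succ) = e j.succ - e 0 by omega]
        · rw [if_neg (by omega), if_neg (fun h => hle h.1), zero_mul]
      · rw [hy0 0 (by omega), Finset.sum_eq_zero]
        intro j _
        simp [c', hN]
    let h' : Fin m → MvPolynomial ι k := fun j => h j.succ + c' j * h 0
    let κ : Fin m → k := fun j => coeff 0 (c' j)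
    have hκ : ∀ j, c' j - C (κ j) ∈ posIdeal k A ι := fun j => by
      by_cases hcond : e 0 ≤ e j.succ ∧ e 0 ≤ N
      · have hj : (c' j).IsHomogeneous (e j.succ - e 0) := by
          dsimp only [c']; rw [if_pos hcond]; exact homogeneousComponent_isHomogeneous _ _
        rcases Nat.eq_zero_or_pos (e j.succ - e 0) with h0 | hpos
        · rw [h0] at hj
          have : homogeneousComponent 0 (c' j) = c' j := by rw [homogeneousComponent_of_mem hj, if_pos rfl]
          rw [homogeneousComponent_zero] at this
          rw [← this]; simp [κ]
        · have h0 : κ j = 0 := by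
            by_contra hne
            have h2 := hj hne
            simp at h2
            omega
          rw [h0, map_zero, sub_zero]
          exact Ideal.subset_span ⟨hc'inv j, _, hpos, hj⟩
      · have : c' j = 0 := if_neg hcond
        simp [κ, this]
    have hli' : LinearIndependent k (fun j => Ideal.Quotient.mk (posIdeal k A ι) (h' j)) := by
      rw [Fintype.linearIndependent_iff]
      intro a ha j
      have hmk : ∀ i, Ideal.Quotient.mk (posIdeal k A ι) (h' i) =
          Ideal.Quotient.mk (posIdeal k A ι) (h i.succ) + κ i • Ideal.Quotient.mk (posIdeal k A ι) (h 0) := by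
        intro i
        rw [← Ideal.Quotient.mk_eq_mk, ← Ideal.Quotient.mk_eq_mk, ← Ideal.Quotient.mk_eq_mk, ← Submodule.Quotient.mk_smul,
          ← Submodule.Quotient.mk_add, Submodule.Quotient.eq, MvPolynomial.smul_eq_C_mul]
        have := Ideal.mul_mem_right (h 0) _ (hκ i)
        convert this using 1
        simp only [h']
        ring
      have h1 := Fintype.linearIndependent_iff.1 hli (Fin.cons (∑ i, a i * κ i) a) (by
        rw [Fin.sum_univ_succ]
        simp only [Fin.cons_zero, Fin.cons_succ]
        rw [← ha]
        simp only [hmk, smul_add, smul_smul, Finset.sum_add_distrib, ← Finset.sum_smul]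
        rw [add_comm]) j.succ
      simpa using h1
    have hrest := ih h' (fun j => e j.succ) (fun j => by
      refine (hh j.succ).add ?_
      by_cases hcond : e 0 ≤ e j.succ ∧ e 0 ≤ N
      · dsimp only [c']
        rw [if_pos hcond]
        have h2 := (homogeneousComponent_isHomogeneous (e j.succ - e 0) (c j)).mul (hh 0)
        rwa [Nat.sub_add_cancel hcond.1] at h2
      · rw [show c' j = 0 from if_neg hcond, zero_mul]
        exact isHomogeneous_zero _ _ _) hli' N (fun j => y j.succ) (fun j => hy _) (fun j => hyh _) (fun j => hy0 _) (by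
      rw [Fin.sum_univ_succ, hc'y, Finset.sum_mul, ← Finset.sum_add_distrib] at hsum
      rw [← hsum]
      refine Finset.sum_congr rfl fun j _ => ?_
      simp only [h']; ring)
    intro j
    refine Fin.cases ?_ (fun i => hrest i) j
    rw [hc'y]
    exact Finset.sum_eq_zero fun i _ => by rw [hrest i, mul_zero]

/-- Freeness over the invariants. -/
theorem free_invariants : Module.Free (GLin.invariants k A (MvPolynomial ι k)) (MvPolynomial ι k) := by
  classical
  let S := GLin.invariants k A (MvPolynomial ι k)
  let mk := Ideal.Quotient.mkₐ k (posIdeal k A ι)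
  let T : Set (MvPolynomial ι k ⧸ posIdeal k A ι) := mk '' {f | ∃ d, f.IsHomogeneous d}
  obtain ⟨s, hsT, hspan, hli⟩ := exists_linearIndependent k T
  choose f hf hmkf using fun x : s => hsT x.2
  choose e he using hf
  have hT : Submodule.span k T = ⊤ := by
    refine eq_top_iff.2 fun x _ => ?_
    obtain ⟨g, rfl⟩ := Ideal.Quotient.mkₐ_surjective k (posIdeal k A ι) x
    rw [← sum_homogeneousComponent g, map_sum]
    exact Submodule.sum_mem _ fun i _ => Submodule.subset_span ⟨_, ⟨i, homogeneousComponent_isHomogeneous i g⟩, rfl⟩
  rw [hT] at hspan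
  refine Module.Free.of_basis (Module.Basis.mk (v := f) (R := S) ?_ ?_)
  · rw [linearIndependent_iff']
    intro t g hg i hi
    let n := t.card
    let σ : Fin n ≃ t := t.equivFin.symm
    have hli' : LinearIndependent k (fun j : Fin n => Ideal.Quotient.mk (posIdeal k A ι) (f (σ j))) := by
      have h2 : (fun j : Fin n => Ideal.Quotient.mk (posIdeal k A ι) (f (σ j))) = (fun x : s => (x : _ ⧸ _)) ∘ (fun j => (σ j).1) :=
        funext fun j => hmkf _
      rw [h2]
      exact hli.comp _ (Subtype.val_injective.comp σ.injective)
    have hcomp : ∀ d, homogeneousComponent d ((g i : S) : MvPolynomial ι k) = 0 := by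
      intro d
      let N := d + e i
      let y : Fin n → MvPolynomial ι k := fun j =>
        if e (σ j) ≤ N then homogeneousComponent (N - e (σ j)) ((g (σ j) : S) : MvPolynomial ι k) else 0
      have h1 := eq_zero_of_homogeneous_relation hlin hG hsub hgen (fun j => f (σ j)) (fun j => e (σ j))
        (fun j => he _) hli' N y (fun j => by
          dsimp only [y]; split_ifs
          · exact homogeneousComponent_mem_invariants hlin (g _).2 _
          · exact zero_mem _)
        (fun j => by
          dsimp only [y]; split_ifs
          · exact homogeneousComponent_isHomogeneous _ _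
          · exact isHomogeneous_zero _ _ _)
        (fun j hj => if_neg (not_le.2 hj)) (by
          have h2 := congrArg (homogeneousComponent N) hg
          rw [map_sum, map_zero, ← Finset.sum_coe_sort, ← σ.sum_comp] at h2
          rw [← h2]
          refine Finset.sum_congr rfl fun j _ => ?_
          change y j * f (σ j) = homogeneousComponent N (((g (σ j) : S) : MvPolynomial ι k) * f (σ j))
          rw [homogeneousComponent_mul_right (he _)]
          dsimp only [y]
          split_ifs <;> simp) (σ.symm ⟨i, hi⟩)
      dsimp only [y] at h1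
      rw [σ.apply_symm_apply, if_pos (Nat.le_add_left _ _), show N - e i = d from Nat.add_sub_cancel _ _] at h1
      exact h1
    refine Subtype.ext ?_
    rw [← sum_homogeneousComponent ((g i : S) : MvPolynomial ι k)]
    exact Finset.sum_eq_zero fun d _ => hcomp d
  · have key : ∀ d (g : MvPolynomial ι k), g.IsHomogeneous d → g ∈ Submodule.span S (Set.range f) := by
      intro d
      induction d using Nat.strong_induction_on with
      | _ d ih =>
      intro g hg
      have hmem : mk g ∈ Submodule.span k (Set.range fun x : s => mk (f x)) := by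
        rw [show (fun x : s => mk (f x)) = (fun x : s => (x : _ ⧸ _)) from funext hmkf, Subtype.range_coe_subtype,
          Set.ofPred_mem_eq, hspan]
        trivial
      obtain ⟨a, ha⟩ := (Finsupp.mem_span_range_iff_exists_finsupp).1 hmem
      have hn : g - a.sum (fun x c => c • f x) ∈ posIdeal k A ι := by
        rw [← Ideal.Quotient.eq]
        change mk g = mk (a.sum fun x c => c • f x)
        rw [← ha, map_finsuppSum]
        simp only [map_smul]
      obtain ⟨m, r, w, hw⟩ := Submodule.mem_span_set'.1 hn
      have h1 := congrArg (homogeneousComponent d) hw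
      rw [map_sub, homogeneousComponent_of_mem hg, if_pos rfl, eq_sub_iff_add_eq] at h1
      rw [← h1, map_sum, Finsupp.sum, map_sum]
      refine add_mem (Submodule.sum_mem _ fun l _ => ?_) (Submodule.sum_mem _ fun x _ => ?_)
      · obtain ⟨q, hq, hwq⟩ := (w l).2.2
        rw [smul_eq_mul, homogeneousComponent_mul_right hwq]
        split_ifs with hqd
        · rw [mul_comm]
          exact Submodule.smul_mem _ (⟨(w l : MvPolynomial ι k), (w l).2.1⟩ : S)
            (ih _ (by omega) _ (homogeneousComponent_isHomogeneous _ _))
        · exact zero_mem _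
      · rw [map_smul, homogeneousComponent_of_mem (he x)]
        split_ifs
        · exact Submodule.smul_of_tower_mem _ (a x) (Submodule.subset_span ⟨x, rfl⟩)
        · rw [smul_zero]; exact zero_mem _
    intro g _
    rw [← sum_homogeneousComponent g]
    exact Submodule.sum_mem _ fun i _ => key i _ (homogeneousComponent_isHomogeneous i g)

end Groth.Agent.GLinCST
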