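import Groth.Agent.ComodBasic.Orbit
import Groth.Agent.GLinCST.FixIdeal
import Mathlib.RingTheory.MvPolynomial.Homogeneous

/-!
# Linear actions on polynomial rings respect the grading
-/

namespace Groth.Agent.GLinCST

open TensorProduct HopfRep Groth.Agent.ComodBasic MvPolynomial

universe u w

variable {k : Type u} [Field k] {A : Type u} [CommRing A] [HopfAlgebra k A]
variable {ι : Type w}

theorem homogeneousComponent_mul_right {f g : MvPolynomial ι k} {d : ℕ} (hg : g.IsHomogeneous d) (N : ℕ) :
    homogeneousComponent N (f * g) = if d ≤ N then homogeneousComponent (N - d) f * g else 0 := by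
  induction f using MvPolynomial.induction_on' with
  | add p q hp hq => rw [add_mul, map_add, hp, hq, map_add]; split_ifs <;> simp [add_mul]
  | monomial s a =>
    have hm := MvPolynomial.isHomogeneous_monomial (d := s) a (n := s.degree) rfl
    rw [homogeneousComponent_of_mem (hm.mul hg), homogeneousComponent_of_mem hm]
    by_cases hd : d ≤ N
    · rw [if_pos hd]
      by_cases h : N - d = s.degree
      · rw [if_pos h, if_pos (by omega)]
      · rw [if_neg h, if_neg (by omega), zero_mul]
    · rw [if_neg hd, if_neg (by omega)]

variable [Fintype ι] [HopfRep.Comod k A (MvPolynomial ι k)] [GLin.IsCoactAlg k A (MvPolynomial ι k)]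
variable (hlin : GLin.IsLinear k A ι)

/-- Degree `d` inside the tensor product. -/
noncomputable abbrev degT (k : Type u) [Field k] (A : Type u) [CommRing A] [Algebra k A] (ι : Type w) (d : ℕ) :
    Submodule k (MvPolynomial ι k ⊗[k] A) :=
  LinearMap.range ((homogeneousSubmodule ι k d).subtype.rTensor A)

omit [Fintype ι] [HopfRep.Comod k A (MvPolynomial ι k)] [GLin.IsCoactAlg k A (MvPolynomial ι k)] in
theorem degT_mul {d e : ℕ} {x y : MvPolynomial ι k ⊗[k] A} (hx : x ∈ degT k A ι d) (hy : y ∈ degT k A ι e) :
    x * y ∈ degT k A ι (d + e) := by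
  obtain ⟨x', rfl⟩ := hx
  obtain ⟨y', rfl⟩ := hy
  induction x' using TensorProduct.induction_on with
  | zero => simp
  | add p q hp hq => rw [map_add, add_mul]; exact add_mem hp hq
  | tmul p h =>
    induction y' using TensorProduct.induction_on with
    | zero => simp
    | add p' q' hp hq => rw [map_add, mul_add]; exact add_mem hp hq
    | tmul q h' => exact ⟨⟨(p : MvPolynomial ι k) * q, p.2.mul q.2⟩ ⊗ₜ[k] (h * h'), by simp⟩

include hlin

theorem coact_mem_degT {f : MvPolynomial ι k} {d : ℕ} (hf : f.IsHomogeneous d) :
    Comod.coact (k := k) (A := A) f ∈ degT k A ι d := by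
  have key : ∀ s : ι →₀ ℕ, Comod.coact (k := k) (A := A) (monomial s (1 : k)) ∈ degT k A ι s.degree := by
    intro s
    induction s using Finsupp.induction with
    | zero =>
      rw [map_zero, show (monomial (0 : ι →₀ ℕ) (1 : k)) = 1 from rfl, GLin.IsCoactAlg.coact_one]
      exact ⟨⟨1, isHomogeneous_one ι k⟩ ⊗ₜ[k] 1, rfl⟩
    | single_add j m t hj hm ih =>
      clear hm hj
      induction m with
      | zero => simpa using ih
      | succ m ihm =>
        have e : monomial (Finsupp.single j (m + 1) + t) (1 : k) = X j * monomial (Finsupp.single j m + t) (1 : k) := by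
          rw [MvPolynomial.X, monomial_mul, one_mul, ← add_assoc, ← Finsupp.single_add, add_comm 1 m]
        rw [e, GLin.IsCoactAlg.coact_mul,
          show (Finsupp.single j (m + 1) + t).degree = 1 + (Finsupp.single j m + t).degree by
            simp only [map_add, Finsupp.degree_single]; ring]
        refine degT_mul ?_ ihm
        obtain ⟨c, hc⟩ := hlin j
        rw [hc]
        exact Submodule.sum_mem _ fun i _ => ⟨⟨X i, isHomogeneous_X k i⟩ ⊗ₜ[k] c i, rfl⟩
  rw [f.as_sum, map_sum]
  refine Submodule.sum_mem _ fun s hs => ?_
  rw [show monomial s (coeff s f) = coeff s f • monomial s (1 : k) by rw [smul_monomial, smul_eq_mul, mul_one], map_smul]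
  refine Submodule.smul_mem _ _ ?_
  have hdeg : s.degree = d := by
    rw [Finsupp.degree_eq_weight_one]; exact hf (MvPolynomial.mem_support_iff.1 hs)
  exact hdeg ▸ key s

theorem isComodHom_homogeneousComponent (d : ℕ) :
    Hoch.IsComodHom A (homogeneousComponent d : MvPolynomial ι k →ₗ[k] MvPolynomial ι k) := by
  refine LinearMap.ext fun p => ?_
  rw [LinearMap.comp_apply, LinearMap.comp_apply]
  induction p using MvPolynomial.induction_on' with
  | add p q hp hq => simp only [map_add, hp, hq]
  | monomial s a =>
    obtain ⟨z, hz⟩ := coact_mem_degT (A := A) hlin (isHomogeneous_monomial (d := s) a (n := s.degree) rfl)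
    rw [homogeneousComponent_of_mem (isHomogeneous_monomial a rfl), ← hz]
    split_ifs with h
    · rw [← hz]
      clear hz
      induction z using TensorProduct.induction_on with
      | zero => simp
      | add x y hx hy => simp only [map_add, ← hx, ← hy]
      | tmul x y =>
        simp only [LinearMap.rTensor_tmul, Submodule.subtype_apply]
        rw [homogeneousComponent_of_mem x.2, if_pos h]
    · rw [map_zero]
      clear hz
      induction z using TensorProduct.induction_on with
      | zero => simp
      | add x y hx hy => simp only [map_add, ← hx, ← hy, add_zero]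
      | tmul x y =>
        simp only [LinearMap.rTensor_tmul, Submodule.subtype_apply]
        rw [homogeneousComponent_of_mem x.2, if_neg h, TensorProduct.zero_tmul]

theorem homogeneousComponent_mem_invariants {f : MvPolynomial ι k} (hf : f ∈ GLin.invariants k A (MvPolynomial ι k))
    (d : ℕ) : homogeneousComponent d f ∈ GLin.invariants k A (MvPolynomial ι k) := by
  have h := LinearMap.congr_fun (isComodHom_homogeneousComponent (A := A) hlin d) f
  rw [LinearMap.comp_apply, LinearMap.comp_apply, (GLin.mem_invariants_iff k A _ f).1 hf, LinearMap.rTensor_tmul] at h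
  exact h

theorem slice_coact_isHomogeneous {f : MvPolynomial ι k} {d : ℕ} (hf : f.IsHomogeneous d) (φ : A →ₗ[k] k) :
    (slice φ (Comod.coact (k := k) (A := A) f)).IsHomogeneous d := by
  obtain ⟨z, hz⟩ := coact_mem_degT (A := A) hlin hf
  rw [← hz, slice_rTensor]
  exact (slice φ z).2

omit hlin

variable (k A ι) in
/-- The ideal generated by invariants of positive degree. -/
noncomputable def posIdeal : Ideal (MvPolynomial ι k) :=
  Ideal.span {f | f ∈ GLin.invariants k A (MvPolynomial ι k) ∧ ∃ d, 0 < d ∧ f.IsHomogeneous d}

theorem homogeneousComponent_mem_posIdeal {f : MvPolynomial ι k} (hf : f ∈ posIdeal k A ι) (N : ℕ) :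
    homogeneousComponent N f ∈ posIdeal k A ι := by
  obtain ⟨m, c, g, rfl⟩ := Submodule.mem_span_set'.1 hf
  rw [map_sum]
  refine Submodule.sum_mem _ fun i _ => ?_
  obtain ⟨d, hd, hg⟩ := (g i).2.2
  rw [smul_eq_mul, homogeneousComponent_mul_right hg]
  split_ifs
  · exact Ideal.mul_mem_left _ _ (Ideal.subset_span (g i).2)
  · exact zero_mem _

theorem constantCoeff_eq_zero_of_mem_posIdeal {f : MvPolynomial ι k} (hf : f ∈ posIdeal k A ι) :
    constantCoeff f = 0 := by
  have h : posIdeal k A ι ≤ RingHom.ker (constantCoeff (R := k) (σ := ι)) := Ideal.span_le.2 fun g hg => by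
    obtain ⟨d, hd, hg'⟩ := hg.2
    rw [SetLike.mem_coe, RingHom.mem_ker, constantCoeff_eq]
    by_contra h0
    have h1 := hg' h0
    simp at h1
    omega
  exact h hf

theorem isSubcomod_posIdeal : IsSubcomod (k := k) (A := A) ((posIdeal k A ι).restrictScalars k) :=
  haveI := isHopfMod_self (k := k) (A := A) (R := MvPolynomial ι k)
  isSubcomod_span_of_subset_fixed (M := MvPolynomial ι k) _ fun _ hf => hf.1

end Groth.Agent.GLinCST
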