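import Groth.Prelude.Def_ConstAct
import Groth.Agent.J2Lib.Descent
import Mathlib.RingTheory.Nakayama
import Mathlib.RingTheory.Filtration
import Mathlib.RingTheory.Flat.FaithfullyFlat.Algebra
import Mathlib.LinearAlgebra.Dimension.Finrank
import Mathlib.LinearAlgebra.Basis.VectorSpace

/-!
# Local rings are free over the invariants of groups generated by pseudo-reflections
-/

namespace Groth.Agent.GLinCST

open IsLocalRing

universe u

variable {k : Type u} [Field k] {A : Type u} [CommRing A] [IsLocalRing A] [Algebra k A]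
variable {G : Type u} [Group G] [MulSemiringAction G A] [SMulCommClass G k A]

theorem smul_mem_maximalIdeal (g : G) {a : A} (ha : a ∈ maximalIdeal A) : g • a ∈ maximalIdeal A := by
  intro h
  refine ha ?_
  have := h.map (MulSemiringAction.toRingHom G A g⁻¹)
  simpa using this

theorem smul_mem_maximalIdeal_pow (g : G) : ∀ (N : ℕ) {a : A}, a ∈ maximalIdeal A ^ N → g • a ∈ maximalIdeal A ^ N := by
  intro N
  induction N with
  | zero => simp
  | succ N ih =>
    intro a ha
    rw [pow_succ] at ha ⊢
    refine Submodule.mul_induction_on ha (fun x hx y hy => ?_) (fun x y hx hy => by rw [smul_add]; exact add_mem hx hy)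
    rw [smul_mul']
    exact Ideal.mul_mem_mul (ih hx) (smul_mem_maximalIdeal g hy)

variable [IsNoetherianRing A]

/-- The ideal of functions moved by a tame pseudo-reflection is principal. -/
theorem exists_reflection_generator (hres : ∀ a : A, ∃ c : k, a - algebraMap k A c ∈ maximalIdeal A)
    {g : G} {d : ℕ} (hd : g ^ d = 1) (hd0 : (d : k) ≠ 0)
    {a₀ : A} (ha₀ : a₀ ∈ maximalIdeal A)
    (hrank : ∀ a ∈ maximalIdeal A, ∃ c : k, g • a - a - c • (g • a₀ - a₀) ∈ maximalIdeal A ^ 2) :
    ∃ l : A, l ∈ maximalIdeal A ∧ ∀ a : A, ∃ D : A, g • a - a = l * D := by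
  classical
  let I : Ideal A := Ideal.span (Set.range fun a => g • a - a)
  have hT : ∀ a, g • a - a ∈ I := fun a => Ideal.subset_span ⟨a, rfl⟩
  -- the square of the maximal ideal moves little
  have hsq : ∀ b ∈ maximalIdeal A ^ 2, g • b - b ∈ maximalIdeal A * I := by
    intro b hb
    rw [pow_two] at hb
    refine Submodule.mul_induction_on hb (fun x hx y hy => ?_) (fun x y hx hy => ?_)
    · rw [smul_mul', show g • x * g • y - x * y = g • y * (g • x - x) + x * (g • y - y) by ring]
      exact add_mem (Ideal.mul_mem_mul (smul_mem_maximalIdeal g hy) (hT x)) (Ideal.mul_mem_mul hx (hT y))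
    · rw [smul_add, add_sub_add_comm]; exact add_mem hx hy
  have hgI : ∀ z ∈ I, g • z ∈ I := by
    intro z hz
    have h := add_mem hz (hT z)
    rwa [add_sub_cancel] at h
  have hgMI : ∀ z ∈ maximalIdeal A * I, g • z ∈ maximalIdeal A * I := by
    intro z hz
    refine Submodule.mul_induction_on hz (fun x hx y hy => ?_) (fun x y hx hy => by rw [smul_add]; exact add_mem hx hy)
    rw [smul_mul']
    exact Ideal.mul_mem_mul (smul_mem_maximalIdeal g hx) (hgI y hy)
  have hinj : ∀ a, g • a - a ∈ maximalIdeal A ^ 2 → g • a - a ∈ maximalIdeal A * I := by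
    intro a ha
    have hb := hsq _ ha
    have key : ∀ i : ℕ, (g ^ i) • a - a - i • (g • a - a) ∈ maximalIdeal A * I := by
      intro i
      induction i with
      | zero => simp
      | succ i ih =>
        rw [pow_succ', mul_smul, succ_nsmul, show g • (g ^ i) • a - a - (i • (g • a - a) + (g • a - a)) =
          g • ((g ^ i) • a - a - i • (g • a - a)) + i • (g • (g • a - a) - (g • a - a)) by
            simp only [smul_sub, smul_mul', nsmul_eq_mul, show g • (i : A) = i from map_natCast (MulSemiringAction.toRingHom G A g) i]; ring]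
        exact add_mem (hgMI _ ih) (nsmul_mem hb i)
    have h := key d
    rw [hd, one_smul, sub_self, zero_sub, Ideal.neg_mem_iff, ← Nat.cast_smul_eq_nsmul k] at h
    rw [show g • a - a = (d : k)⁻¹ • ((d : k) • (g • a - a)) by rw [smul_smul, inv_mul_cancel₀ hd0, one_smul]]
    exact Submodule.smul_of_tower_mem _ _ h
  refine ⟨g • a₀ - a₀, sub_mem (smul_mem_maximalIdeal g ha₀) ha₀, fun a => ?_⟩
  have hI : I ≤ Ideal.span {g • a₀ - a₀} := by
    refine Submodule.le_of_le_smul_of_le_jacobson_bot (I := maximalIdeal A) (IsNoetherian.noetherian _)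
      (maximalIdeal_le_jacobson _) (Ideal.span_le.2 ?_)
    rintro _ ⟨b, rfl⟩
    obtain ⟨c₀, hc₀⟩ := hres b
    obtain ⟨c, hc⟩ := hrank _ hc₀
    have e : g • (b - algebraMap k A c₀ - c • a₀) - (b - algebraMap k A c₀ - c • a₀) =
        g • b - b - c • (g • a₀ - a₀) := by
      rw [smul_sub, smul_sub, smul_algebraMap, smul_comm g c, smul_sub]
      ring
    have hc' : g • b - b - c • (g • a₀ - a₀) ∈ maximalIdeal A * I := by
      rw [← e]
      refine hinj _ ?_
      rw [e]
      rw [smul_sub, smul_algebraMap, sub_sub_sub_cancel_right] at hc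
      exact hc
    have h := add_mem (Submodule.mem_sup_left (T := maximalIdeal A • I)
      (Submodule.smul_of_tower_mem (Ideal.span {g • a₀ - a₀}) c (Ideal.mem_span_singleton_self _)))
      (Submodule.mem_sup_right (S := Ideal.span {g • a₀ - a₀}) hc')
    rw [add_sub_cancel] at h
    exact h
  obtain ⟨D, hD⟩ := Ideal.mem_span_singleton.1 (hI (hT a))
  exact ⟨D, hD⟩

variable [IsDomain A] [Finite G]

variable (k A G) in
/-- The ideal generated by invariants vanishing at the closed point. -/
noncomputable def invIdeal : Ideal A :=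
  Ideal.span {a | a ∈ ConstAct.inv k A G ∧ a ∈ maximalIdeal A}

theorem mem_sup_pow_of_relation (hG : (Nat.card G : k) ≠ 0) {P : Set G} (hP : Subgroup.closure P = ⊤)
    (hrefl : ∀ g ∈ P, ∃ l : A, l ∈ maximalIdeal A ∧ ∀ a : A, ∃ D : A, g • a - a = l * D) :
    ∀ (N : ℕ) {m : ℕ} (y h : Fin (m + 1) → A), (∀ j, y j ∈ ConstAct.inv k A G) →
      (∀ c : Fin m → A, (∀ j, c j ∈ ConstAct.inv k A G) → y 0 ≠ ∑ j, c j * y j.succ) →
      ∑ j, y j * h j = 0 → h 0 ∈ invIdeal k A G ⊔ maximalIdeal A ^ N := by
  classical
  haveI := Fintype.ofFinite G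
  intro N
  induction N with
  | zero => intro m y h _ _ _; exact Submodule.mem_sup_right (by simp)
  | succ N ih =>
    intro m y h hy hne hsum
    set J := invIdeal k A G ⊔ maximalIdeal A ^ (N + 1) with hJ
    have hJst : ∀ (g : G) (a : A), a ∈ J → g • a ∈ J := by
      intro g a ha
      obtain ⟨b, hb, c, hc, rfl⟩ := Submodule.mem_sup.1 ha
      rw [smul_add]
      refine add_mem (Submodule.mem_sup_left ?_) (Submodule.mem_sup_right (smul_mem_maximalIdeal_pow g _ hc))
      refine Submodule.span_induction ?_ ?_ ?_ ?_ hb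
      · exact fun z hz => by rw [hz.1 g]; exact Ideal.subset_span hz
      · rw [smul_zero]; exact zero_mem _
      · intro z w _ _ hz hw; rw [smul_add]; exact add_mem hz hw
      · intro r z _ hz; rw [smul_eq_mul, smul_mul']; exact Ideal.mul_mem_left _ _ hz
    have hgen : ∀ g : G, g • h 0 - h 0 ∈ J := by
      intro g
      have hg : g ∈ Subgroup.closure P := by rw [hP]; trivial
      induction hg using Subgroup.closure_induction with
      | one => simp
      | mul a b _ _ ha hb =>
        rw [mul_smul, show a • b • h 0 - h 0 = a • (b • h 0 - h 0) + (a • h 0 - h 0) by rw [smul_sub]; ring]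
        exact add_mem (hJst _ _ hb) ha
      | inv a _ ha =>
        have := neg_mem (hJst a⁻¹ _ ha)
        rwa [smul_sub, inv_smul_smul, neg_sub] at this
      | mem a ha =>
        obtain ⟨l, hlM, hl⟩ := hrefl a ha
        choose D hD using hl
        rcases eq_or_ne l 0 with rfl | hl0
        · rw [hD, zero_mul]; exact zero_mem _
        have h1 : ∑ j, y j * D (h j) = 0 := by
          refine (mul_eq_zero.1 ?_).resolve_left hl0
          have h2 := congrArg (a • ·) hsum
          simp only [Finset.smul_sum, smul_mul', smul_zero] at h2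
          rw [Finset.mul_sum]
          calc ∑ j, l * (y j * D (h j)) = ∑ j, (y j * a • h j - y j * h j) :=
                Finset.sum_congr rfl fun j _ => by rw [← mul_sub, hD]; ring
            _ = 0 := by
              rw [Finset.sum_sub_distrib, hsum, sub_zero]
              rw [← h2]
              exact Finset.sum_congr rfl fun j _ => by rw [hy j a]
        obtain ⟨p, hp, q, hq, hpq⟩ := Submodule.mem_sup.1 (ih y (fun j => D (h j)) hy hne h1)
        rw [hD, ← hpq, mul_add]
        refine Submodule.add_mem_sup (Ideal.mul_mem_left _ _ hp) ?_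
        rw [pow_succ']
        exact Ideal.mul_mem_mul hlM hq
    let E : A → A := fun a => (Nat.card G : k)⁻¹ • ∑ g : G, g • a
    have hE : ∀ a, E a ∈ ConstAct.inv k A G := fun a g => by
      change g • ((Nat.card G : k)⁻¹ • ∑ x : G, x • a) = _
      rw [smul_comm, Finset.smul_sum]
      congr 1
      exact Fintype.sum_equiv (Equiv.mulLeft g) _ _ fun x => by simp [mul_smul]
    have hdiff : E (h 0) - h 0 ∈ J := by
      have e : E (h 0) - h 0 = (Nat.card G : k)⁻¹ • ∑ g : G, (g • h 0 - h 0) := by
        rw [Finset.sum_sub_distrib, smul_sub, Finset.sum_const, Finset.card_univ, ← Nat.cast_smul_eq_nsmul k,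
          ← Nat.card_eq_fintype_card, smul_smul, inv_mul_cancel₀ hG, one_smul]
      rw [e]
      exact Submodule.smul_of_tower_mem _ _ (sum_mem fun g _ => hgen g)
    by_cases hv : E (h 0) ∈ maximalIdeal A
    · have h3 : E (h 0) ∈ J := Submodule.mem_sup_left (Ideal.subset_span ⟨hE _, hv⟩)
      have := sub_mem h3 hdiff
      simpa using this
    exfalso
    obtain ⟨u, hu⟩ := not_not.1 (fun h => hv ((IsLocalRing.mem_maximalIdeal _).2 h))
    have huinv : (↑u⁻¹ : A) ∈ ConstAct.inv k A G := fun g => by
      have h4 : g • (u : A) = u := by rw [hu]; exact hE _ g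
      have h5 : g • (↑u⁻¹ : A) * (u : A) = 1 := by rw [← h4, ← smul_mul', Units.inv_mul, smul_one]
      exact (Units.eq_inv_of_mul_eq_one_right h5 :)
    refine hne (fun j => -((↑u⁻¹ : A) * E (h j.succ))) (fun j => neg_mem (mul_mem huinv (hE _))) ?_
    have h6 : ∑ j, y j * E (h j) = 0 := by
      have h7 : ∀ j, y j * E (h j) = (Nat.card G : k)⁻¹ • ∑ g : G, g • (y j * h j) := fun j => by
        rw [mul_smul_comm, Finset.mul_sum]
        congr 1
        exact Finset.sum_congr rfl fun g _ => by rw [smul_mul', hy j g]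
      simp only [h7]
      rw [← Finset.smul_sum, Finset.sum_comm]
      simp only [← Finset.smul_sum, hsum, smul_zero, Finset.sum_const_zero]
    rw [Fin.sum_univ_succ, ← hu, add_eq_zero_iff_eq_neg] at h6
    have h8 := congrArg (· * (↑u⁻¹ : A)) h6
    simp only [mul_assoc, Units.mul_inv, mul_one] at h8
    rw [h8, neg_mul, Finset.sum_mul, ← Finset.sum_neg_distrib]
    exact Finset.sum_congr rfl fun j _ => by ring

theorem isLocalHom_algebraMap_inv : IsLocalHom (algebraMap (ConstAct.inv k A G) A) := by
  refine ⟨fun s hs => ?_⟩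
  obtain ⟨u, hu⟩ := hs
  have hinv : (↑u⁻¹ : A) ∈ ConstAct.inv k A G := fun g => by
    have h4 : g • (u : A) = u := by rw [hu]; exact s.2 g
    have h5 : g • (↑u⁻¹ : A) * (u : A) = 1 := by rw [← h4, ← smul_mul', Units.inv_mul, smul_one]
    exact (Units.eq_inv_of_mul_eq_one_right h5 :)
  refine isUnit_iff_exists_inv.2 ⟨⟨↑u⁻¹, hinv⟩, Subtype.ext ?_⟩
  change (s : A) * ↑u⁻¹ = 1
  rw [show (s : A) = u from hu.symm, Units.mul_inv]

theorem isLocalRing_inv : IsLocalRing (ConstAct.inv k A G) := by
  haveI := isLocalHom_algebraMap_inv (k := k) (A := A) (G := G)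
  exact RingHom.domain_isLocalRing (algebraMap (ConstAct.inv k A G) A)

/-- Freeness over the invariants. -/
theorem free_inv (hres : ∀ a : A, ∃ c : k, a - algebraMap k A c ∈ maximalIdeal A)
    (hG : (Nat.card G : k) ≠ 0) {P : Set G} (hP : Subgroup.closure P = ⊤)
    (hrefl : ∀ g ∈ P, ∃ l : A, l ∈ maximalIdeal A ∧ ∀ a : A, ∃ D : A, g • a - a = l * D)
    [Module.Finite (ConstAct.inv k A G) A] : Module.Free (ConstAct.inv k A G) A := by
  classical
  let S := ConstAct.inv k A G
  haveI : IsLocalRing S := isLocalRing_inv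
  haveI : IsLocalHom (algebraMap S A) := isLocalHom_algebraMap_inv
  have hmaxS : ∀ s : S, s ∈ maximalIdeal S ↔ (s : A) ∈ maximalIdeal A := fun s => by
    simp only [mem_maximalIdeal, mem_nonunits_iff]
    exact not_congr (isUnit_map_iff (algebraMap S A) s).symm
  have hscal : ∀ s : S, ∃ c : k, (s : A) - algebraMap k A c ∈ invIdeal k A G := fun s => by
    obtain ⟨c, hc⟩ := hres s
    exact ⟨c, Ideal.subset_span ⟨sub_mem s.2 (Subalgebra.algebraMap_mem _ c), hc⟩⟩
  let mk := (Ideal.Quotient.mkₐ k (invIdeal k A G)).toLinearMap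
  obtain ⟨t, ht⟩ := Module.Finite.fg_top (R := S) (M := A)
  obtain ⟨b, hbT, hbspan, hbli⟩ := exists_linearIndependent k (mk '' (↑t : Set A))
  choose f hft hfb using fun v : b => hbT v.2
  have hqA : ∀ a ∈ invIdeal k A G, a ∈ maximalIdeal S • (⊤ : Submodule S A) := by
    intro a ha
    refine Submodule.span_induction ?_ (zero_mem _) (fun _ _ _ _ => add_mem) ?_ ha
    · intro z hz
      have := Submodule.smul_mem_smul ((hmaxS ⟨z, hz.1⟩).2 hz.2) (Submodule.mem_top : (1 : A) ∈ (⊤ : Submodule S A))
      simpa [Algebra.smul_def] using this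
    · intro r z _ hz
      refine Submodule.smul_induction_on hz (fun s hs n _ => ?_) (fun x y hx hy => by rw [smul_add]; exact add_mem hx hy)
      rw [smul_comm]
      exact Submodule.smul_mem_smul hs Submodule.mem_top
  have hspan : ⊤ ≤ Submodule.span S (Set.range f) := by
    refine Submodule.le_of_le_smul_of_le_jacobson_bot (I := maximalIdeal S) Module.Finite.fg_top
      (maximalIdeal_le_jacobson _) (ht ▸ Submodule.span_le.2 fun a ha => ?_)
    have h1 : mk a ∈ Submodule.span k (mk '' Set.range f) := by
      rw [show mk '' Set.range f = b by rw [← Set.range_comp]; exact (congrArg Set.range (funext hfb)).trans Subtype.range_coe, hbspan]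
      exact Submodule.subset_span ⟨a, ha, rfl⟩
    rw [← Submodule.map_span] at h1
    obtain ⟨a', ha', e⟩ := h1
    rw [← sub_add_cancel a a', add_comm]
    refine Submodule.add_mem_sup ?_ ?_
    · exact Submodule.span_le_restrictScalars k S _ ha'
    · rw [ht]
      exact hqA _ (Ideal.Quotient.eq.1 e.symm)
  have key : ∀ {m : ℕ} (f : Fin m → A), LinearIndependent k (fun j => mk (f j)) →
      ∀ y : Fin m → S, ∑ j, (y j : A) * f j = 0 → ∀ j, y j = 0 := by
    intro m
    induction m with
    | zero => exact fun _ _ _ _ j => j.elim0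
    | succ m ih =>
      intro f hli y hsum
      by_cases hne : ∀ c : Fin m → A, (∀ j, c j ∈ S) → (y 0 : A) ≠ ∑ j, c j * (y j.succ : A)
      · exfalso
        have h0 : ∀ N, f 0 ∈ invIdeal k A G ⊔ maximalIdeal A ^ N := fun N =>
          mem_sup_pow_of_relation hG hP hrefl N (fun j => (y j : A)) f (fun j => (y j).2) hne hsum
        refine hli.ne_zero 0 ?_
        have h1 : Submodule.Quotient.mk (p := invIdeal k A G) (f 0) ∈
            (⨅ N : ℕ, maximalIdeal A ^ N • (⊤ : Submodule A (A ⧸ invIdeal k A G))) := by
          simp only [Submodule.mem_iInf]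
          intro N
          obtain ⟨p, hp, q, hq, hpq⟩ := Submodule.mem_sup.1 (h0 N)
          rw [← hpq, Submodule.Quotient.mk_add, (Submodule.Quotient.mk_eq_zero _).2 hp, zero_add]
          have := Submodule.smul_mem_smul hq (Submodule.mem_top : (1 : A ⧸ invIdeal k A G) ∈ ⊤)
          simpa [Algebra.smul_def] using this
        rw [Ideal.iInf_pow_smul_eq_bot_of_isLocalRing _ (maximalIdeal.isMaximal A).ne_top, Submodule.mem_bot] at h1
        exact h1
      obtain ⟨c, hc⟩ := not_forall.1 hne
      obtain ⟨hcinv, hcy⟩ := Classical.not_imp.1 hc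
      rw [not_not] at hcy
      choose κ hκ using fun j => hscal ⟨c j, hcinv j⟩
      have hli' : LinearIndependent k (fun j => mk (f j.succ + c j * f 0)) := by
        rw [Fintype.linearIndependent_iff]
        intro a ha j
        have hmk : ∀ i, mk (f i.succ + c i * f 0) = mk (f i.succ) + κ i • mk (f 0) := fun i => by
          rw [← map_smul, ← map_add]
          refine Ideal.Quotient.eq.2 ?_
          have := Ideal.mul_mem_right (f 0) _ (hκ i)
          convert this using 1
          rw [Algebra.smul_def]; ring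
        have h1 := Fintype.linearIndependent_iff.1 hli (Fin.cons (∑ i, a i * κ i) a) (by
          rw [Fin.sum_univ_succ]
          simp only [Fin.cons_zero, Fin.cons_succ]
          rw [← ha]
          simp only [hmk, smul_add, smul_smul, Finset.sum_add_distrib, ← Finset.sum_smul]
          rw [add_comm]) j.succ
        simpa using h1
      have hrest := ih (fun j => f j.succ + c j * f 0) hli' (fun j => y j.succ) (by
        rw [Fin.sum_univ_succ, hcy, Finset.sum_mul, ← Finset.sum_add_distrib] at hsum
        rw [← hsum]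
        exact Finset.sum_congr rfl fun j _ => by ring)
      intro j
      refine Fin.cases ?_ hrest j
      refine Subtype.ext ?_
      rw [hcy, ZeroMemClass.coe_zero]
      exact Finset.sum_eq_zero fun i _ => by rw [hrest i, ZeroMemClass.coe_zero, mul_zero]
  refine Module.Free.of_basis (Module.Basis.mk (v := f) (R := S) ?_ hspan)
  rw [linearIndependent_iff']
  intro s g hg i hi
  let σ : Fin s.card ≃ s := s.equivFin.symm
  have hli : LinearIndependent k (fun j : Fin s.card => mk (f (σ j))) := by
    have e : (fun j : Fin s.card => mk (f (σ j))) = (fun x : b => (x : A ⧸ invIdeal k A G)) ∘ (fun j => (σ j).1) :=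
      funext fun j => hfb _
    rw [e]
    exact hbli.comp _ (Subtype.val_injective.comp σ.injective)
  have h := key (fun j => f (σ j)) hli (fun j => g (σ j)) (by
    rw [← Finset.sum_coe_sort, ← σ.sum_comp] at hg
    rw [← hg]
    exact Finset.sum_congr rfl fun j _ => rfl) (σ.symm ⟨i, hi⟩)
  simpa using h

/-- Regularity of the invariants. -/
theorem isRegularLocalRing_inv [IsRegularLocalRing A] [Module.Free (ConstAct.inv k A G) A] :
    IsRegularLocalRing (ConstAct.inv k A G) := by
  let S := ConstAct.inv k A G
  haveI : IsLocalRing S := isLocalRing_inv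
  haveI : IsLocalHom (algebraMap S A) := isLocalHom_algebraMap_inv
  haveI : Module.FaithfullyFlat S A := Module.FaithfullyFlat.of_flat_of_isLocalHom
  haveI : IsNoetherianRing S := by
    let em : Ideal S ↪o Ideal A :=
      OrderEmbedding.ofMapLEIff (fun J => J.map (algebraMap S A)) fun J J' =>
        ⟨fun h => by
          have h' := Ideal.comap_mono (f := algebraMap S A) h
          rwa [Ideal.comap_map_eq_self_of_faithfullyFlat, Ideal.comap_map_eq_self_of_faithfullyFlat] at h',
          fun h => Ideal.map_mono h⟩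
    exact isNoetherianRing_iff.2 (isNoetherian_iff'.2 ⟨em.gtEmbedding.wellFounded (wellFounded_gt (α := Ideal A))⟩)
  exact J2Lib.isRegularLocalRing_of_flat S A

end Groth.Agent.GLinCST
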