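import Groth.Agent.GLinCST.Free
import Groth.Agent.ComodBasic.FiniteInv
import Groth.Agent.J2Lib.Descent
import Groth.Agent.DimTrdeg.Basic
import Mathlib.RingTheory.Flat.FaithfullyFlat.Algebra
import Mathlib.RingTheory.KrullDimension.Polynomial
import Mathlib.RingTheory.KrullDimension.NonZeroDivisors
import Mathlib.RingTheory.RingHom.Flat
import Mathlib.RingTheory.RegularLocalRing.Polynomial

/-!
# Invariants of groups generated by pseudo-reflections are polynomial
-/

namespace Groth.Agent.GLinCST

open TensorProduct HopfRep Groth.Agent.ComodBasic MvPolynomial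

universe u w

/-- Local generators give generators modulo the square. -/
theorem exists_gens_mod_sq {k : Type u} {S : Type*} [Field k] [CommRing S] [IsNoetherianRing S] [Algebra k S] (x : S →ₐ[k] k)
    [(RingHom.ker x).IsPrime] {n : ℕ}
    (hn : (IsLocalRing.maximalIdeal (Localization.AtPrime (RingHom.ker x))).spanFinrank ≤ n) :
    ∃ t : Finset S, t.card ≤ n ∧ (↑t : Set S) ⊆ RingHom.ker x ∧
      (RingHom.ker x).restrictScalars k ≤ Submodule.span k (↑t : Set S) ⊔ ((RingHom.ker x) ^ 2).restrictScalars k := by
  classical
  let L := Localization.AtPrime (RingHom.ker x)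
  obtain ⟨G, hGcard, hGspan⟩ := Submodule.FG.exists_span_set_encard_eq_spanFinrank (IsNoetherian.noetherian (IsLocalRing.maximalIdeal L))
  have hGfin : G.Finite := Set.encard_lt_top_iff.1 (hGcard ▸ ENat.natCast_lt_top _)
  choose num hnum using fun g : L => IsLocalization.exists_mk'_eq (RingHom.ker x).primeCompl g
  choose den hden using hnum
  have hGsub : ∀ g ∈ G, num g ∈ RingHom.ker x := fun g hg => by
    have h : g ∈ IsLocalRing.maximalIdeal L := hGspan ▸ Submodule.subset_span hg
    rw [← hden g] at h
    exact (IsLocalization.AtPrime.mk'_mem_maximal_iff L _ _ _).1 h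
  refine ⟨hGfin.toFinset.image num, ?_, ?_, fun s hs => ?_⟩
  · refine Finset.card_image_le.trans (le_trans ?_ hn)
    rw [hGfin.encard_eq_coe_toFinset_card] at hGcard
    exact le_of_eq (by exact_mod_cast hGcard)
  · intro a ha
    obtain ⟨g, hg, rfl⟩ := Finset.mem_image.1 (Finset.mem_coe.1 ha)
    exact hGsub g (hGfin.mem_toFinset.1 hg)
  · rw [Submodule.restrictScalars_mem] at hs
    set I : Ideal S := Ideal.span (↑(hGfin.toFinset.image num) : Set S) with hI
    have h1 : algebraMap S L s ∈ I.map (algebraMap S L) := by
      have h : algebraMap S L s ∈ IsLocalRing.maximalIdeal L :=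
        (IsLocalization.AtPrime.to_map_mem_maximal_iff L _ s).2 hs
      rw [← hGspan] at h
      refine Submodule.span_le.2 (fun g hg => ?_) h
      rw [SetLike.mem_coe, ← hden g]
      exact IsLocalization.mk'_mem_iff.2 (Ideal.mem_map_of_mem _
        (Ideal.subset_span (Finset.mem_coe.2 (Finset.mem_image.2 ⟨g, hGfin.mem_toFinset.2 hg, rfl⟩))))
    obtain ⟨u, hu, hus⟩ := (IsLocalization.algebraMap_mem_map_algebraMap_iff (RingHom.ker x).primeCompl L I s).1 h1
    have hc : x u ≠ 0 := hu
    have hI' : ∀ a ∈ I, a ∈ Submodule.span k (↑(hGfin.toFinset.image num) : Set S) ⊔ ((RingHom.ker x) ^ 2).restrictScalars k := by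
      intro a ha
      refine Submodule.span_induction (fun b hb => Submodule.mem_sup_left (Submodule.subset_span hb)) (zero_mem _)
        (fun a b _ _ ha hb => add_mem ha hb) (fun r a haI ha => ?_) ha
      have haker : a ∈ RingHom.ker x := by
        refine (Submodule.span_le.2 ?_) haI
        intro b hb
        obtain ⟨g, hg, rfl⟩ := Finset.mem_image.1 (Finset.mem_coe.1 hb)
        exact hGsub g (hGfin.mem_toFinset.1 hg)
      rw [smul_eq_mul, show r * a = x r • a + (r - algebraMap k S (x r)) * a by rw [Algebra.smul_def]; ring]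
      refine add_mem (Submodule.smul_mem _ _ ha) (Submodule.mem_sup_right ?_)
      rw [Submodule.restrictScalars_mem, pow_two]
      exact Ideal.mul_mem_mul (by simp [RingHom.mem_ker]) haker
    have h2 : x u • s = u * s - (u - algebraMap k S (x u)) * s := by rw [Algebra.smul_def]; ring
    rw [show s = (x u)⁻¹ • (x u • s) by rw [smul_smul, inv_mul_cancel₀ hc, one_smul]]
    refine Submodule.smul_mem _ _ ?_
    rw [h2]
    refine sub_mem (hI' _ hus) (Submodule.mem_sup_right ?_)
    rw [Submodule.restrictScalars_mem, pow_two]
    exact Ideal.mul_mem_mul (by simp [RingHom.mem_ker]) hs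

variable {k : Type u} [Field k] {A : Type u} [CommRing A] [HopfAlgebra k A] [Module.Finite k A]
variable {ι : Type w} [Fintype ι] [HopfRep.Comod k A (MvPolynomial ι k)] [GLin.IsCoactAlg k A (MvPolynomial ι k)]

/-- Chevalley–Shephard–Todd: the invariants are a polynomial ring. -/
theorem exists_algEquiv_mvPolynomial (hlin : GLin.IsLinear k A ι) (hG : IsLinearlyReductive k A)
    (hsub : ∀ (I : Ideal A) [I.IsHopfIdeal k], IsLinearlyReductive k (A ⧸ I))
    (hgen : GLin.IsGenByPseudoRefl k A ι) :
    ∃ m : ℕ, m ≤ Fintype.card ι ∧ Nonempty (↥(GLin.invariants k A (MvPolynomial ι k)) ≃ₐ[k] MvPolynomial (Fin m) k) := by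
  classical
  let S := GLin.invariants k A (MvPolynomial ι k)
  let n := Fintype.card ι
  haveI := free_invariants hlin hG hsub hgen
  haveI : Module.FaithfullyFlat S (MvPolynomial ι k) := inferInstance
  haveI : IsNoetherianRing S := by
    let em : Ideal S ↪o Ideal (MvPolynomial ι k) :=
      OrderEmbedding.ofMapLEIff (fun J => J.map (algebraMap S (MvPolynomial ι k))) fun J J' =>
        ⟨fun h => by
          have h' := Ideal.comap_mono (f := algebraMap S (MvPolynomial ι k)) h
          rwa [Ideal.comap_map_eq_self_of_faithfullyFlat, Ideal.comap_map_eq_self_of_faithfullyFlat] at h',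
          fun h => Ideal.map_mono h⟩
    exact isNoetherianRing_iff.2 (isNoetherian_iff'.2 ⟨em.gtEmbedding.wellFounded (wellFounded_gt (α := Ideal (MvPolynomial ι k)))⟩)
  haveI : Algebra.IsIntegral S (MvPolynomial ι k) :=
    isIntegral_invariants (H := A) (A := S) (GLin.mem_invariants_iff k A _)
  have hdimR : ringKrullDim (MvPolynomial ι k) = (n : WithBot ℕ∞) := by
    rw [MvPolynomial.ringKrullDim_of_isNoetherianRing, ringKrullDim_eq_zero_of_field, zero_add, Nat.card_eq_fintype_card]
  have hdimS : ringKrullDim S = (n : WithBot ℕ∞) :=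
    (DimTrdeg.ringKrullDim_eq_of_isIntegral S (MvPolynomial ι k) Subtype.val_injective).symm.trans hdimR
  let ev : MvPolynomial ι k →ₐ[k] k := MvPolynomial.aeval (fun _ => 0)
  have hev : ∀ f, ev f = constantCoeff f := fun f => by simp [ev]
  let x : S →ₐ[k] k := ev.comp S.val
  haveI : (RingHom.ker x).IsPrime := RingHom.ker_isPrime _
  haveI : (RingHom.ker ev).IsPrime := RingHom.ker_isPrime _
  -- regularity and the dimension bound
  let g : Localization.AtPrime (RingHom.ker x) →+* Localization.AtPrime (RingHom.ker ev) :=
    Localization.localRingHom (RingHom.ker x) (RingHom.ker ev) (algebraMap S (MvPolynomial ι k)) rfl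
  have hflat : (algebraMap S (MvPolynomial ι k)).Flat := RingHom.flat_algebraMap_iff.2 inferInstance
  have hreg : IsRegularLocalRing (Localization.AtPrime (RingHom.ker x)) := by
    have hg := RingHom.Flat.localRingHom hflat (RingHom.ker ev) (RingHom.ker x) rfl
    haveI : IsLocalHom g := Localization.isLocalHom_localRingHom _ _ _ rfl
    letI := g.toAlgebra
    haveI : Module.Flat (Localization.AtPrime (RingHom.ker x)) (Localization.AtPrime (RingHom.ker ev)) := hg
    haveI : IsLocalHom (algebraMap (Localization.AtPrime (RingHom.ker x)) (Localization.AtPrime (RingHom.ker ev))) := ‹IsLocalHom g›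
    haveI : IsRegularRing (MvPolynomial ι k) := inferInstance
    haveI : IsRegularLocalRing (Localization.AtPrime (RingHom.ker ev)) := IsRegularRing.isRegularLocalRing_localization _
    exact J2Lib.isRegularLocalRing_of_flat _ (Localization.AtPrime (RingHom.ker ev))
  have hrank : (IsLocalRing.maximalIdeal (Localization.AtPrime (RingHom.ker x))).spanFinrank ≤ n := by
    have h1 := @IsRegularLocalRing.spanFinrank_maximalIdeal _ _ hreg
    rw [IsLocalization.AtPrime.ringKrullDim_eq_height (RingHom.ker x)] at h1
    have h2 : ((RingHom.ker x).height : WithBot ℕ∞) ≤ (n : WithBot ℕ∞) :=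
      hdimS ▸ Ideal.height_le_ringKrullDim_of_ne_top (Ideal.IsPrime.ne_top inferInstance)
    rw [← h1] at h2
    exact_mod_cast h2
  obtain ⟨t, htn, htker, hgens⟩ := exists_gens_mod_sq x hrank
  -- homogeneous generators modulo the square
  let q : S →ₗ[k] S ⧸ (RingHom.ker x ^ 2).restrictScalars k := Submodule.mkQ _
  let T : Set (S ⧸ (RingHom.ker x ^ 2).restrictScalars k) :=
    q '' {s | ∃ d, 0 < d ∧ (s : MvPolynomial ι k).IsHomogeneous d}
  obtain ⟨b, hbT, hbspan, hbli⟩ := exists_linearIndependent k T
  let U := Submodule.span k (q '' (↑t : Set S))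
  have hker0 : ∀ s : S, s ∈ RingHom.ker x ↔ constantCoeff (s : MvPolynomial ι k) = 0 := fun s => by
    rw [RingHom.mem_ker, ← hev]; rfl
  have hpos : ∀ (s : S) (d : ℕ), 0 < d → (s : MvPolynomial ι k).IsHomogeneous d → s ∈ RingHom.ker x := by
    intro s d hd hs
    rw [hker0, constantCoeff_eq]
    by_contra h0
    have h1 := hs h0
    simp at h1
    omega
  have hTU : Submodule.span k T ≤ U := by
    rw [Submodule.span_le]
    rintro _ ⟨s, ⟨d, hd, hs⟩, rfl⟩
    obtain ⟨a, ha, c, hc, hac⟩ := Submodule.mem_sup.1 (hgens (hpos s d hd hs))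
    rw [SetLike.mem_coe, ← hac, map_add, show q c = 0 from (Submodule.Quotient.mk_eq_zero _).2 hc, add_zero]
    exact (Submodule.map_span q _).le ⟨a, ha, rfl⟩
  haveI : Module.Finite k U := Module.Finite.span_of_finite k (t.finite_toSet.image q)
  have hUcard : Module.finrank k U ≤ n := by
    refine le_trans ?_ htn
    have h := finrank_span_finset_le_card (R := k) (t.image q)
    rw [Finset.coe_image] at h
    exact h.trans Finset.card_image_le
  haveI : Module.Finite k (Submodule.span k T) := Submodule.finiteDimensional_of_le hTU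
  have hbfin : b.Finite := by
    have h := hbli
    have hb' : ∀ v : b, (v : S ⧸ (RingHom.ker x ^ 2).restrictScalars k) ∈ Submodule.span k T :=
      fun v => Submodule.subset_span (hbT v.2)
    have h' : LinearIndependent k (fun v : b => (⟨v.1, hb' v⟩ : Submodule.span k T)) :=
      LinearIndependent.of_comp (Submodule.span k T).subtype h
    haveI := h'.finite
    exact Set.toFinite b
  haveI := hbfin.fintype
  have hbcard : Fintype.card b ≤ n := by
    rw [← finrank_span_eq_card hbli, Subtype.range_coe, hbspan]
    exact (Submodule.finrank_mono hTU).trans hUcard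
  choose y hy hyb using fun v : b => hbT v.2
  let Φ : MvPolynomial b k →ₐ[k] S := MvPolynomial.aeval y
  have hcomps : ∀ (s : S) (d : ℕ), homogeneousComponent d (s : MvPolynomial ι k) ∈ S := fun s d =>
    homogeneousComponent_mem_invariants hlin s.2 d
  have key : ∀ (d : ℕ) (s : S), (s : MvPolynomial ι k).IsHomogeneous d → s ∈ Φ.range := by
    intro d
    induction d using Nat.strong_induction_on with
    | _ d ih =>
    intro s hs
    rcases Nat.eq_zero_or_pos d with rfl | hd
    · refine ⟨C (coeff 0 (s : MvPolynomial ι k)), Subtype.ext ?_⟩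
      have h1 : homogeneousComponent 0 (s : MvPolynomial ι k) = (s : MvPolynomial ι k) := by
        rw [homogeneousComponent_of_mem hs, if_pos rfl]
      rw [homogeneousComponent_zero] at h1
      change ((Φ (C _) : S) : MvPolynomial ι k) = _
      rw [show Φ (C (coeff 0 (s : MvPolynomial ι k))) = algebraMap k S _ from MvPolynomial.aeval_C _ _]
      exact h1
    have hqs : q s ∈ Submodule.span k b := hbspan.symm ▸ Submodule.subset_span ⟨s, ⟨d, hd, hs⟩, rfl⟩
    rw [show b = Set.range (fun v : b => q (y v)) by rw [funext hyb, Subtype.range_coe]] at hqs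
    obtain ⟨a, ha⟩ := (Submodule.mem_span_range_iff_exists_fun k).1 hqs
    have hz : s - ∑ v, a v • y v ∈ RingHom.ker x ^ 2 := by
      refine (Submodule.Quotient.mk_eq_zero ((RingHom.ker x ^ 2).restrictScalars k)).1 ?_
      change q (s - ∑ v, a v • y v) = 0
      rw [map_sub, map_sum, ← ha, sub_eq_zero]
      simp only [map_smul]
    let compS : ℕ → S →ₗ[k] S := fun e => LinearMap.codRestrict (Subalgebra.toSubmodule S)
      ((homogeneousComponent e).comp S.val.toLinearMap) (fun s => hcomps s e)
    have hsq : compS d (s - ∑ v, a v • y v) ∈ Φ.range := by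
      refine Submodule.mul_induction_on ((pow_two (RingHom.ker x)).le hz) (fun a ha b hb => ?_) (fun a b ha hb => by rw [map_add]; exact add_mem ha hb)
      have hab : compS d (a * b) = ∑ i ∈ Finset.range ((a : MvPolynomial ι k).totalDegree + 1),
          if i ≤ d then compS (d - i) b * compS i a else 0 := by
        refine Subtype.ext ?_
        rw [AddSubmonoidClass.coe_finsetSum]
        change homogeneousComponent d ((a : MvPolynomial ι k) * (b : MvPolynomial ι k)) = _
        conv_lhs => rw [← sum_homogeneousComponent (a : MvPolynomial ι k), Finset.sum_mul, map_sum]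
        refine Finset.sum_congr rfl fun i _ => ?_
        rw [mul_comm, homogeneousComponent_mul_right (homogeneousComponent_isHomogeneous i _)]
        split_ifs <;> rfl
      rw [hab]
      refine sum_mem fun i _ => ?_
      split_ifs with hi
      · have hz0 : ∀ c : S, c ∈ RingHom.ker x → compS 0 c = 0 := fun c hc => Subtype.ext (by
          change homogeneousComponent 0 (c : MvPolynomial ι k) = 0
          rw [homogeneousComponent_zero, ← constantCoeff_eq, (hker0 c).1 hc, map_zero])
        rcases Nat.eq_zero_or_pos i with rfl | hi0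
        · rw [hz0 a ha, mul_zero]; exact zero_mem _
        rcases Nat.lt_or_ge i d with hid | hid
        · exact mul_mem (ih _ (by omega) _ (homogeneousComponent_isHomogeneous _ _))
            (ih _ hid _ (homogeneousComponent_isHomogeneous _ _))
        · rw [show d - i = 0 by omega, hz0 b hb, zero_mul]; exact zero_mem _
      · exact zero_mem _
    have hs' : compS d s = s := Subtype.ext (by
      change homogeneousComponent d (s : MvPolynomial ι k) = _
      rw [homogeneousComponent_of_mem hs, if_pos rfl])
    rw [map_sub, hs', map_sum] at hsq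
    rw [← sub_add_cancel s (∑ v, compS d (a v • y v))]
    refine add_mem hsq (sum_mem fun v _ => ?_)
    rw [map_smul]
    refine Subalgebra.smul_mem _ ?_ _
    obtain ⟨e, -, hye⟩ := hy v
    have hyv : compS d (y v) = if d = e then y v else 0 := by
      refine Subtype.ext ?_
      change homogeneousComponent d (y v : MvPolynomial ι k) = _
      rw [homogeneousComponent_of_mem hye]
      split_ifs <;> rfl
    rw [hyv]
    split_ifs
    · exact ⟨X v, MvPolynomial.aeval_X _ _⟩
    · exact zero_mem _
  have hsurj : Function.Surjective Φ := by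
    intro s
    have h : s = ∑ i ∈ Finset.range ((s : MvPolynomial ι k).totalDegree + 1),
        (⟨homogeneousComponent i (s : MvPolynomial ι k), hcomps s i⟩ : S) := by
      refine Subtype.ext ?_
      rw [AddSubmonoidClass.coe_finsetSum]
      exact (sum_homogeneousComponent _).symm
    rw [h]
    exact Subalgebra.sum_mem Φ.range fun i _ => key i _ (homogeneousComponent_isHomogeneous i _)
  have hinj : Function.Injective Φ := by
    rw [injective_iff_map_eq_zero]
    intro f hf
    by_contra h0
    have h1 : ringKrullDim S ≤ ringKrullDim (MvPolynomial b k ⧸ Ideal.span {f}) :=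
      ringKrullDim_le_of_surjective
        (Ideal.Quotient.lift _ Φ.toRingHom fun a ha => by
          obtain ⟨c, rfl⟩ := Ideal.mem_span_singleton'.1 ha
          simp [hf])
        (Ideal.Quotient.lift_surjective_of_surjective _ _ hsurj)
    have h2 := ringKrullDim_quotient_succ_le_of_nonZeroDivisor (mem_nonZeroDivisors_of_ne_zero h0)
    rw [MvPolynomial.ringKrullDim_of_isNoetherianRing, ringKrullDim_eq_zero_of_field, zero_add,
      Nat.card_eq_fintype_card] at h2
    rw [hdimS] at h1
    have h3 := (add_le_add h1 le_rfl).trans h2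
    have h4 : n + 1 ≤ Fintype.card b := by exact_mod_cast h3
    omega
  exact ⟨Fintype.card b, hbcard,
    ⟨(AlgEquiv.ofBijective Φ ⟨hinj, hsurj⟩).symm.trans (MvPolynomial.renameEquiv k (Fintype.equivFin b))⟩⟩

end Groth.Agent.GLinCST
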