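import Groth.Agent.GLinCST.Poly
import Groth.Agent.ComodBasic.InvFinite
import Groth.Agent.S13251
import Groth.Agent.FlatAscent.Smooth
import Mathlib.RingTheory.Nakayama

/-!
# Invariants are smooth at fixed points of groups generated by pseudo-reflections
-/

namespace Groth.Agent.GLinCST

open TensorProduct HopfRep Groth.Agent.ComodBasic MvPolynomial WithConv

universe u v w w'

section Sub

variable {k : Type u} [Field k] {A : Type v} [CommRing A] [HopfAlgebra k A]

theorem mem_quotInvariants_iff_of_injective {V : Type w} [AddCommGroup V] [Module k V] [Comod k A V]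
    {W : Type w'} [AddCommGroup W] [Module k W] [Comod k A W]
    {f : V →ₗ[k] W} (hf : Hoch.IsComodHom A f) (hinj : Function.Injective f) {I : Ideal A} {v : V} :
    f v ∈ GLin.quotInvariants k A W I ↔ v ∈ GLin.quotInvariants k A V I := by
  rw [GLin.mem_quotInvariants_iff, GLin.mem_quotInvariants_iff]
  have h := LinearMap.congr_fun hf v
  rw [LinearMap.comp_apply, LinearMap.comp_apply] at h
  rw [h, ← LinearMap.comp_apply, LinearMap.lTensor_comp_rTensor, ← LinearMap.rTensor_comp_lTensor,
    LinearMap.comp_apply, ← LinearMap.rTensor_tmul (A ⧸ I) f (1 : A ⧸ I) v]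
  exact (Module.Flat.rTensor_preserves_injective_linearMap (M := A ⧸ I) f hinj).eq_iff

variable {R : Type w} [CommRing R] [Algebra k R] [Comod k A R] [GLin.IsCoactAlg k A R]

theorem isSubcomod_ker_fixedPt {x : R →ₐ[k] k} (hx : GLin.IsFixedPt k A x) :
    IsSubcomod (k := k) (A := A) ((RingHom.ker x).restrictScalars k) := by
  refine (isSubcomod_iff _).2 fun φ r hr => ?_
  rw [Submodule.restrictScalars_mem, RingHom.mem_ker] at hr ⊢
  have h : ∀ z : R ⊗[k] A, x (slice φ.ofConv z) =
      φ.ofConv (Algebra.TensorProduct.lid k A (Algebra.TensorProduct.map x (AlgHom.id k A) z)) := by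
    intro z
    induction z using TensorProduct.induction_on with
    | zero => simp
    | add a b ha hb => simp only [map_add, ha, hb]
    | tmul a b => simp [mul_comm]
  have h1 : GLin.orbitHom k A x r = algebraMap k A (x r) := AlgHom.congr_fun hx r
  rw [smul_def, act_apply, h]
  exact (congrArg φ.ofConv h1).trans (by rw [hr, map_zero, map_zero])

theorem isSubcomod_mul {I J : Ideal R} (hI : IsSubcomod (k := k) (A := A) (I.restrictScalars k))
    (hJ : IsSubcomod (k := k) (A := A) (J.restrictScalars k)) :
    IsSubcomod (k := k) (A := A) ((I * J).restrictScalars k) := by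
  intro w hw
  rw [Submodule.restrictScalars_mem] at hw
  refine Submodule.mul_induction_on hw (fun a ha b hb => ?_) (fun a b ha hb => by rw [map_add]; exact add_mem ha hb)
  rw [GLin.IsCoactAlg.coact_mul]
  obtain ⟨za, hza⟩ := hI a ha
  obtain ⟨zb, hzb⟩ := hJ b hb
  rw [← hza, ← hzb]
  clear hza hzb
  induction za using TensorProduct.induction_on with
  | zero => simp
  | add p q hp hq => rw [map_add, add_mul]; exact add_mem hp hq
  | tmul p h =>
    induction zb using TensorProduct.induction_on with
    | zero => simp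
    | add p' q' hp hq => rw [map_add, mul_add]; exact add_mem hp hq
    | tmul q h' =>
      exact ⟨⟨(p : R) * q, Ideal.mul_mem_mul p.2 q.2⟩ ⊗ₜ[k] (h * h'), by
        simp only [LinearMap.rTensor_tmul, Submodule.subtype_apply, Algebra.TensorProduct.tmul_mul_tmul]⟩

theorem isSubcomod_pow {I : Ideal R} (hI : IsSubcomod (k := k) (A := A) (I.restrictScalars k)) :
    ∀ N : ℕ, IsSubcomod (k := k) (A := A) ((I ^ N).restrictScalars k)
  | 0 => (isSubcomod_iff _).2 fun φ r _ => by simp
  | N + 1 => by rw [pow_succ]; exact isSubcomod_mul (isSubcomod_pow hI N) hI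

end Sub

section Adic

variable {k : Type u} [Field k] {R : Type w} [CommRing R] [Algebra k R] (x : R →ₐ[k] k)

/-- A subalgebra containing the cotangent space is dense. -/
theorem top_le_sup_pow {L : Submodule k R}
    (hm : (RingHom.ker x).restrictScalars k ≤ L ⊔ ((RingHom.ker x) ^ 2).restrictScalars k)
    (hLm : L ≤ (RingHom.ker x).restrictScalars k)
    (B : Subalgebra k R) (hLB : L ≤ Subalgebra.toSubmodule B) :
    ∀ N : ℕ, ⊤ ≤ Subalgebra.toSubmodule B ⊔ ((RingHom.ker x) ^ N).restrictScalars k := by
  set m := RingHom.ker x with hmdef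
  have step : ∀ N : ℕ, (m ^ N).restrictScalars k ≤ Subalgebra.toSubmodule B ⊔ (m ^ (N + 1)).restrictScalars k := by
    intro N
    induction N with
    | zero =>
      intro r _
      rw [show r = algebraMap k R (x r) + (r - algebraMap k R (x r)) by ring]
      refine Submodule.add_mem_sup (B.algebraMap_mem _) ?_
      simp [hmdef, RingHom.mem_ker]
    | succ N ih =>
      intro r hr
      rw [Submodule.restrictScalars_mem, pow_succ] at hr
      refine Submodule.mul_induction_on hr (fun a ha b hb => ?_) (fun a b ha hb => add_mem ha hb)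
      obtain ⟨p, hp, a', ha', rfl⟩ := Submodule.mem_sup.1 (ih ha)
      obtain ⟨l, hl, b', hb', rfl⟩ := Submodule.mem_sup.1 (hm hb)
      rw [Submodule.restrictScalars_mem] at ha' hb'
      rw [show (p + a') * (l + b') = p * l + (a' * l + (p + a') * b') by ring]
      refine Submodule.add_mem_sup (B.mul_mem hp (hLB hl)) ?_
      rw [Submodule.restrictScalars_mem]
      refine add_mem ?_ ?_
      · rw [pow_succ _ (N + 1)]
        exact Ideal.mul_mem_mul ha' (hLm hl)
      · rw [show N + 1 + 1 = N + 2 from rfl, pow_add]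
        exact Ideal.mul_mem_mul ha hb'
  intro N
  induction N with
  | zero => intro r _; exact Submodule.mem_sup_right (by simp)
  | succ N ih => exact ih.trans (sup_le le_sup_left (step N))

end Adic

section Height

/-- Integral extensions cannot lower heights along contraction. -/
theorem height_le_height_comap {S R : Type*} [CommRing S] [CommRing R] [Algebra S R] [Algebra.IsIntegral S R]
    (Q : Ideal R) [Q.IsPrime] : Q.height ≤ (Q.comap (algebraMap S R)).height := by
  have h := Order.height_le_height_apply_of_strictMono (PrimeSpectrum.comap (algebraMap S R))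
    (fun P P' h => Ideal.IsIntegral.comap_lt_comap (R := S) (I := P.asIdeal) h) ⟨Q, inferInstance⟩
  rw [← PrimeSpectrum.height_eq_orderHeight, ← PrimeSpectrum.height_eq_orderHeight] at h
  exact h

end Height

section Main

variable {k : Type u} [Field k] {A : Type u} [CommRing A] [HopfAlgebra k A] [Module.Finite k A]
variable {R : Type u} [CommRing R] [Algebra k R] [Algebra.FiniteType k R] [Algebra.Smooth k R]
  [Comod k A R] [GLin.IsCoactAlg k A R]

theorem isRegularLocalRing_invariants (hG : IsLinearlyReductive k A)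
    (hsub : ∀ (I : Ideal A) [I.IsHopfIdeal k], IsLinearlyReductive k (A ⧸ I))
    (x : R →ₐ[k] k) (hx : GLin.IsFixedPt k A x) (hgen : GLin.IsGenByPseudoReflAt k A R x)
    [(RingHom.ker (x.comp (GLin.invariants k A R).val)).IsPrime] :
    IsRegularLocalRing (Localization.AtPrime (RingHom.ker (x.comp (GLin.invariants k A R).val))) := by
  classical
  haveI : IsNoetherianRing R := Algebra.FiniteType.isNoetherianRing k R
  haveI : IsNoetherianRing (GLin.invariants k A R) := S13251.isNoetherianRing_invariants hG
  haveI : Algebra.IsIntegral (GLin.invariants k A R) R :=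
    isIntegral_invariants (H := A) (A := GLin.invariants k A R) (GLin.mem_invariants_iff k A R)
  haveI : IsRegularRing R :=
    haveI := FlatAscent.isGeometricallyRegular_of_smooth (k := k) (S := R) k inferInstance
    IsRegularRing.of_ringEquiv (Algebra.TensorProduct.lid k R).toRingEquiv
  haveI := isHopfMod_self (k := k) (A := A) (R := R)
  haveI : IsSemisimpleModule (Cv k A) R := isSemisimpleModule_of_finite hG R
  haveI : (RingHom.ker x).IsPrime := RingHom.ker_isPrime _
  have hm := isSubcomod_ker_fixedPt hx
  have hpow := isSubcomod_pow hm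
  -- an equivariant section of the cotangent space
  obtain ⟨C, hC⟩ := exists_isCompl (toSub _ (hpow 2))
  let L : Submodule (Cv k A) R := C ⊓ toSub _ hm
  have hLm : L.restrictScalars k ≤ (RingHom.ker x).restrictScalars k := fun r hr => hr.2
  have hsplit : (RingHom.ker x).restrictScalars k ≤ L.restrictScalars k ⊔ ((RingHom.ker x) ^ 2).restrictScalars k := by
    intro r hr
    obtain ⟨a, ha, c, hc, rfl⟩ := Submodule.mem_sup.1 (hC.sup_eq_top.ge (Submodule.mem_top : r ∈ ⊤))
    rw [add_comm]
    refine Submodule.add_mem_sup ⟨hc, ?_⟩ ha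
    have h2 : a ∈ RingHom.ker x := Ideal.pow_le_self two_ne_zero ha
    simpa using (RingHom.ker x).sub_mem hr h2
  have hdisj : ∀ r ∈ L, r ∈ (RingHom.ker x) ^ 2 → r = 0 := fun r hr hr' =>
    Submodule.disjoint_def.1 hC.disjoint r hr' hr.1
  let mk2 : R →ₗ[k] R ⧸ (RingHom.ker x) ^ 2 := (Ideal.Quotient.mkₐ k ((RingHom.ker x) ^ 2)).toLinearMap
  let g : L.restrictScalars k →ₗ[k] R ⧸ (RingHom.ker x) ^ 2 := mk2 ∘ₗ (L.restrictScalars k).subtype
  have hg : Function.Injective g := (injective_iff_map_eq_zero g).2 fun l hl =>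
    Subtype.ext (hdisj _ l.2 (Ideal.Quotient.eq_zero_iff_mem.1 hl))
  have hmk2 : ∀ a ∈ (RingHom.ker x) ^ 2, mk2 a = 0 := fun a ha => Ideal.Quotient.eq_zero_iff_mem.2 ha
  have hrange : LinearMap.range g = GLin.cotSpace k R x := by
    refine le_antisymm ?_ ?_
    · rintro _ ⟨l, rfl⟩
      exact ⟨l, hLm l.2, rfl⟩
    · rintro _ ⟨v, hv, rfl⟩
      obtain ⟨l, hl, a, ha, rfl⟩ := Submodule.mem_sup.1 (hsplit hv)
      refine ⟨⟨l, hl⟩, ?_⟩
      change mk2 l = mk2 (l + a)
      rw [map_add, hmk2 a ha, add_zero]
  -- the dimension of the cotangent space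
  obtain ⟨G, hGcard, hGker, hGspan⟩ := exists_gens_mod_sq (S := R) x
    (le_refl (IsLocalRing.maximalIdeal (Localization.AtPrime (RingHom.ker x))).spanFinrank)
  have hcot : GLin.cotSpace k R x ≤ Submodule.span k (mk2 '' (↑G : Set R)) := by
    rintro _ ⟨v, hv, rfl⟩
    obtain ⟨l, hl, a, ha, rfl⟩ := Submodule.mem_sup.1 (hGspan hv)
    change mk2 (l + a) ∈ _
    rw [map_add, hmk2 a ha, add_zero]
    exact (Submodule.map_span mk2 _).le ⟨l, hl, rfl⟩
  haveI : Module.Finite k (Submodule.span k (mk2 '' (↑G : Set R))) :=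
    Module.Finite.span_of_finite k (G.finite_toSet.image mk2)
  haveI : Module.Finite k (GLin.cotSpace k R x) := Submodule.finiteDimensional_of_le hcot
  haveI : Module.Finite k (LinearMap.range g) := by rw [hrange]; infer_instance
  haveI : Module.Finite k (L.restrictScalars k) := Module.Finite.equiv (LinearEquiv.ofInjective g hg).symm
  let n := Module.finrank k (L.restrictScalars k)
  have hn : Module.finrank k (GLin.cotSpace k R x) = n := by
    rw [← hrange]; exact LinearMap.finrank_range_of_inj hg
  have hnG : n ≤ G.card := by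
    rw [← hn]
    refine (Submodule.finrank_mono hcot).trans ?_
    have h := finrank_span_finset_le_card (R := k) (G.image mk2)
    rw [Finset.coe_image] at h
    exact h.trans Finset.card_image_le
  letI cL : Comod k A (L.restrictScalars k) :=
    ComodSub.Comod.restr (inferInstance : Comod k A R) (L.restrictScalars k) (isSubcomod_restrict L)
  have hιL : Hoch.IsComodHom A (L.restrictScalars k).subtype :=
    ComodSub.isComodHom_subtype (inferInstance : Comod k A R) _ (isSubcomod_restrict L)
  -- the linearised action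
  letI ck : Comod k A k := Comod.trivial k A k
  haveI : GLin.IsCoactAlg k A k :=
    ⟨rfl, fun a b => by
      change (a * b) ⊗ₜ[k] (1 : A) = (a ⊗ₜ[k] (1 : A)) * (b ⊗ₜ[k] (1 : A))
      rw [Algebra.TensorProduct.tmul_mul_tmul, one_mul]⟩
  let b : Module.Basis (Fin n) k (L.restrictScalars k) := Module.finBasis k (L.restrictScalars k)
  letI cP : Comod k A (MvPolynomial (Fin n) k) := polyComod (A := k) (H := A) b
  have hcP : ∀ p : MvPolynomial (Fin n) k, Comod.coact (k := k) (A := A) p = polyCoact (A := k) (H := A) b p :=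
    fun _ => rfl
  haveI : GLin.IsCoactAlg k A (MvPolynomial (Fin n) k) :=
    ⟨map_one (polyCoact (A := k) (H := A) b), map_mul (polyCoact (A := k) (H := A) b)⟩
  have hlin : GLin.IsLinear k A (Fin n) := fun j => ⟨fun i => coefMatrix (A := A) b i j, by
    rw [hcP, polyCoact_X, coact_eq_sum b, map_sum]
    simp [polyIncl]⟩
  let Φ : MvPolynomial (Fin n) k →ₐ[k] R := MvPolynomial.aeval fun j => ((b j : L.restrictScalars k) : R)
  have hΦι : Φ.toLinearMap ∘ₗ polyIncl (A := k) b = (L.restrictScalars k).subtype :=
    b.ext fun j => by simp [Φ, polyIncl]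
  have hΦ : Hoch.IsComodHom A Φ.toLinearMap := by
    have key : (Algebra.TensorProduct.map Φ (AlgHom.id k A)).comp (polyCoact (A := k) (H := A) b) =
        (GLin.coactAlgHom k A R).comp Φ := by
      refine MvPolynomial.algHom_ext fun j => ?_
      rw [AlgHom.comp_apply, AlgHom.comp_apply, GLin.coactAlgHom_apply, polyCoact_X]
      have h1 : ∀ z : MvPolynomial (Fin n) k ⊗[k] A,
          Algebra.TensorProduct.map Φ (AlgHom.id k A) z = Φ.toLinearMap.rTensor A z := fun z => rfl
      rw [h1, ← LinearMap.rTensor_comp_apply, hΦι, show Φ (X j) = ((b j : L.restrictScalars k) : R) by simp [Φ]]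
      exact (LinearMap.congr_fun hιL (b j)).symm
    exact LinearMap.ext fun p => (AlgHom.congr_fun key p).symm
  have hι : Hoch.IsComodHom A (polyIncl (A := k) b) :=
    b.ext fun j => by
      rw [LinearMap.comp_apply, LinearMap.comp_apply, ← polyCoact_X (A := k) (H := A) b j, hcP]
      simp [polyIncl]
  have hιinj : Function.Injective (polyIncl (A := k) b) := by
    intro l l' h
    have := congrArg Φ.toLinearMap h
    rw [← LinearMap.comp_apply, ← LinearMap.comp_apply, hΦι] at this
    exact Subtype.ext this
  have hιrange : LinearMap.range (polyIncl (A := k) b) = GLin.linForms k (Fin n) := by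
    rw [GLin.linForms, MvPolynomial.homogeneousSubmodule_one_eq_span_X, LinearMap.range_eq_map, ← b.span_eq,
      Submodule.map_span, ← Set.range_comp]
    congr 2
    funext j
    simp [polyIncl]
  -- fixed parts of the linear forms and of the cotangent space
  have hlinfix : ∀ I : Ideal A, GLin.linForms k (Fin n) ⊓ GLin.quotInvariants k A (MvPolynomial (Fin n) k) I =
      (GLin.quotInvariants k A (L.restrictScalars k) I).map (polyIncl (A := k) b) := by
    intro I
    ext p
    constructor
    · rintro ⟨hp, hp'⟩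
      rw [← hιrange] at hp
      obtain ⟨l, rfl⟩ := hp
      exact ⟨l, (mem_quotInvariants_iff_of_injective hι hιinj).1 hp', rfl⟩
    · rintro ⟨l, hl, rfl⟩
      exact ⟨hιrange ▸ LinearMap.mem_range_self _ l, (mem_quotInvariants_iff_of_injective hι hιinj).2 hl⟩
  have hcotfix : ∀ I : Ideal A, GLin.cotFixed k A R x I =
      (GLin.quotInvariants k A (L.restrictScalars k) I).map g := by
    intro I
    let mI := (Ideal.Quotient.mkₐ k I).toLinearMap
    have hsq : ∀ a ∈ (RingHom.ker x) ^ 2,
        TensorProduct.map mk2 mI (Comod.coact (k := k) (A := A) a) = 0 := by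
      intro a ha
      obtain ⟨z, hz⟩ := hpow 2 a ha
      rw [← hz]
      clear hz
      induction z using TensorProduct.induction_on with
      | zero => simp
      | add p q hp hq => simp only [map_add, hp, hq, add_zero]
      | tmul p q => rw [LinearMap.rTensor_tmul, TensorProduct.map_tmul, Submodule.subtype_apply, hmk2 p p.2, TensorProduct.zero_tmul]
    have hl : ∀ l : L.restrictScalars k,
        TensorProduct.map mk2 mI (Comod.coact (k := k) (A := A) (l : R)) = mk2 l ⊗ₜ[k] (1 : A ⧸ I) ↔
          l ∈ GLin.quotInvariants k A (L.restrictScalars k) I := by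
      intro l
      rw [GLin.mem_quotInvariants_iff, ← (Module.Flat.rTensor_preserves_injective_linearMap (M := A ⧸ I) g hg).eq_iff,
        LinearMap.rTensor_tmul]
      have h := LinearMap.congr_fun hιL l
      rw [LinearMap.comp_apply, LinearMap.comp_apply, Submodule.subtype_apply] at h
      rw [h, ← LinearMap.comp_apply (TensorProduct.map mk2 mI), ← LinearMap.comp_apply (g.rTensor (A ⧸ I)),
        LinearMap.map_comp_rTensor, LinearMap.rTensor_comp_lTensor]
      exact Iff.rfl
    have hmem : ∀ v, v ∈ GLin.cotFixedLift k A R x I ↔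
        TensorProduct.map mk2 mI (Comod.coact (k := k) (A := A) v) = mk2 v ⊗ₜ[k] (1 : A ⧸ I) := fun v => Iff.rfl
    ext q
    constructor
    · rintro ⟨v, ⟨hv, hv'⟩, rfl⟩
      obtain ⟨l, hlL, a, ha, rfl⟩ := Submodule.mem_sup.1 (hsplit hv)
      refine ⟨⟨l, hlL⟩, (hl ⟨l, hlL⟩).1 ?_, ?_⟩
      · have h := (hmem _).1 hv'
        rw [map_add, map_add, hsq a ha, add_zero, map_add, hmk2 a ha, add_zero] at h
        exact h
      · change mk2 l = mk2 (l + a)
        rw [map_add, hmk2 a ha, add_zero]
    · rintro ⟨l, hll, rfl⟩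
      exact ⟨l, ⟨hLm l.2, (hmem _).2 ((hl l).2 hll)⟩, rfl⟩
  have hiff : ∀ I : Ideal A, GLin.IsPseudoRefl k A (Fin n) I ↔ GLin.IsPseudoReflAt k A R x I := by
    intro I
    unfold GLin.IsPseudoRefl GLin.IsPseudoReflAt
    rw [hlinfix, hcotfix, hn, ← hιrange, LinearMap.finrank_range_of_inj hιinj,
      ← (Submodule.equivMapOfInjective _ hιinj _).finrank_eq, ← (Submodule.equivMapOfInjective _ hg _).finrank_eq]
  have hgenlin : GLin.IsGenByPseudoRefl k A (Fin n) := by
    unfold GLin.IsGenByPseudoRefl GLin.genIdeal
    simp only [hiff]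
    exact hgen
  obtain ⟨d, hdn, ⟨e⟩⟩ := exists_algEquiv_mvPolynomial hlin hG hsub hgenlin
  rw [Fintype.card_fin] at hdn
  -- generators of the maximal ideal downstairs
  let S := GLin.invariants k A R
  let xS : S →ₐ[k] k := x.comp S.val
  haveI : (RingHom.ker xS).IsPrime := ‹(RingHom.ker (x.comp (GLin.invariants k A R).val)).IsPrime›
  let q : Ideal S := RingHom.ker xS
  let Φl : MvPolynomial (Fin n) k →ₗ[Cv k A] R := toLin Φ.toLinearMap hΦ
  let Ψ : GLin.invariants k A (MvPolynomial (Fin n) k) →ₐ[k] S :=
    (Φ.comp (GLin.invariants k A (MvPolynomial (Fin n) k)).val).codRestrict S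
      fun p => map_mem_fixedPts Φl (v := (p : MvPolynomial (Fin n) k)) p.2
  have hΨ : ∀ p, (Ψ p : R) = Φ p := fun p => rfl
  let y : Fin d → S := fun i => Ψ (e.symm (X i))
  let t : Fin d → S := fun i => y i - algebraMap k S (xS (y i))
  have htq : ∀ i, t i ∈ q := fun i => by simp [t, q, RingHom.mem_ker]
  let W : Submodule k S := Submodule.span k (Set.range t) ⊔ (q ^ 2).restrictScalars k
  have hW : ∀ p, Ψ p - algebraMap k S (xS (Ψ p)) ∈ W := by
    intro p
    obtain ⟨f, rfl⟩ := e.symm.surjective p
    induction f using MvPolynomial.induction_on with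
    | C a =>
      rw [← MvPolynomial.algebraMap_eq, AlgEquiv.commutes, AlgHom.commutes, AlgHom.commutes,
        Algebra.algebraMap_self, RingHom.id_apply, sub_self]
      exact zero_mem _
    | add f g hf hg' =>
      simp only [map_add]
      rw [add_sub_add_comm]
      exact add_mem hf hg'
    | mul_X f i hf =>
      simp only [map_mul]
      set u := Ψ (e.symm f)
      change u * y i - algebraMap k S (xS u) * algebraMap k S (xS (y i)) ∈ W
      rw [show u * y i - algebraMap k S (xS u) * algebraMap k S (xS (y i)) =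
        xS u • t i + xS (y i) • (u - algebraMap k S (xS u)) + (u - algebraMap k S (xS u)) * t i by
          simp only [t, Algebra.smul_def]; ring]
      refine add_mem (add_mem (Submodule.smul_mem _ _ (Submodule.mem_sup_left (Submodule.subset_span ⟨i, rfl⟩)))
        (Submodule.smul_mem _ _ hf)) (Submodule.mem_sup_right ?_)
      rw [Submodule.restrictScalars_mem, pow_two]
      exact Ideal.mul_mem_mul (by simp [q, RingHom.mem_ker]) (htq i)
  -- a power of the maximal ideal upstairs lies in the extension of the square downstairs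
  obtain ⟨N, hN⟩ : ∃ N, (RingHom.ker x) ^ N ≤ (q ^ 2).map (algebraMap S R) := by
    refine Ideal.exists_pow_le_of_le_radical_of_fg ?_ (IsNoetherian.noetherian _)
    rw [Ideal.radical_eq_sInf]
    refine le_sInf fun Q hQ => ?_
    obtain ⟨hle, hQp⟩ := hQ
    have hqQ : q ≤ Q.comap (algebraMap S R) :=
      Ideal.IsPrime.le_of_pow_le (Ideal.map_le_iff_le_comap.1 hle)
    have hqmax : q.IsMaximal := RingHom.ker_isMaximal_of_surjective xS fun c => ⟨algebraMap k S c, xS.commutes c⟩
    have hcomap : (RingHom.ker x).comap (algebraMap S R) = q := rfl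
    have heq := hqmax.eq_of_le (Ideal.IsPrime.ne_top inferInstance) hqQ
    obtain ⟨P, hP, hP1, hP2⟩ := exists_prime_over_pair (H := A) (A := S) (GLin.mem_invariants_iff k A R)
      (RingHom.ker x) Q (hcomap.trans heq)
    intro r hr
    rw [← hP2]
    change GLin.coactAlgHom k A R r ∈ P
    obtain ⟨z, hz⟩ := hm r hr
    rw [GLin.coactAlgHom_apply, ← hz]
    clear hz
    induction z using TensorProduct.induction_on with
    | zero => simp
    | add a c ha hc => rw [map_add]; exact add_mem ha hc
    | tmul a c =>
      have h1 : (a : R) ⊗ₜ[k] (1 : A) ∈ P := by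
        have := (hP1.ge a.2 : (a : R) ∈ P.comap _)
        exact this
      have := P.mul_mem_right ((1 : R) ⊗ₜ[k] c) h1
      rw [Algebra.TensorProduct.tmul_mul_tmul, mul_one, one_mul] at this
      exact this
  -- extended ideals contract back
  obtain ⟨E, hE, hE'⟩ := exists_reynolds (k := k) (A := A) R
  haveI : IsSemisimpleModule (Cv k A) (MvPolynomial (Fin n) k) := isSemisimpleModule_of_finite hG _
  have hcontract : ∀ (J : Ideal S) (s : S), (s : R) ∈ J.map (algebraMap S R) → s ∈ J := by
    intro J s hs
    have key : ∀ r ∈ J.map (algebraMap S R), ∀ c : R, (⟨E (c * r), hE _⟩ : S) ∈ J := by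
      intro r hr
      refine Submodule.span_induction ?_ ?_ ?_ ?_ hr
      · rintro _ ⟨j, hj, rfl⟩ c
        have h : (⟨E (c * algebraMap S R j), hE _⟩ : S) = j * ⟨E c, hE _⟩ := Subtype.ext (by
          change E (c * (j : R)) = (j : R) * E c
          rw [mul_comm, ← smul_eq_mul, proj_fixed_smul E hE hE' j.2, smul_eq_mul])
        rw [h]
        exact Ideal.mul_mem_right _ _ hj
      · intro c
        simp only [mul_zero, map_zero]
        exact J.zero_mem
      · intro r r' _ _ h h' c
        have := J.add_mem (h c) (h' c)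
        convert this using 1
        exact Subtype.ext (by simp [mul_add, map_add])
      · intro a r _ h c
        have := h (c * a)
        simpa [smul_eq_mul, mul_assoc] using this
    have h := key _ hs 1
    have e1 : (⟨E (1 * (s : R)), hE _⟩ : S) = s := Subtype.ext (by
      change E (1 * (s : R)) = (s : R)
      rw [one_mul]; exact hE' _ s.2)
    rw [e1] at h
    exact h
  have hqgen : q.restrictScalars k ≤ W := by
    intro s hs
    let J : Submodule R R := (RingHom.ker x) ^ (N + 1)
    letI cJ := quotComod J (hpow (N + 1))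
    let π : R →ₗ[Cv k A] R ⧸ J := toLin (J.mkQ.restrictScalars k) (isComodHom_quotComod_mkQ J (hpow (N + 1)))
    have hsurj : Function.Surjective (π ∘ₗ Φl) := by
      intro w
      obtain ⟨r, rfl⟩ := J.mkQ_surjective w
      obtain ⟨_, ⟨p, rfl⟩, a, ha, hpa⟩ := Submodule.mem_sup.1
        (top_le_sup_pow x hsplit hLm Φ.range (fun l hl => ⟨polyIncl (A := k) b ⟨l, hl⟩,
          LinearMap.congr_fun hΦι ⟨l, hl⟩⟩) (N + 1) (Submodule.mem_top : r ∈ ⊤))
      refine ⟨p, (Submodule.Quotient.eq J).2 ?_⟩
      change Φ p - r ∈ J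
      rw [← hpa]
      simpa using J.neg_mem ha
    obtain ⟨v, hv, hvs⟩ := exists_fixed_lift (π ∘ₗ Φl) hsurj (map_mem_fixedPts π (show (s : R) ∈ fixedPts k A R from s.2))
    have hdiff : Φ v - (s : R) ∈ J := (Submodule.Quotient.eq J).1 hvs
    let v' : GLin.invariants k A (MvPolynomial (Fin n) k) := ⟨v, hv⟩
    have hmem : Ψ v' - s ∈ q ^ 2 := hcontract _ _ (hN (Ideal.pow_le_pow_right (Nat.le_succ N) hdiff))
    have h0 : xS (Ψ v') = 0 := by
      have h1 : Ψ v' - s ∈ q := Ideal.pow_le_self two_ne_zero hmem
      have h2 : Ψ v' - s + s ∈ q := add_mem h1 hs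
      simpa [q, RingHom.mem_ker] using h2
    have h3 := hW v'
    rw [h0, map_zero, sub_zero] at h3
    rw [← sub_sub_cancel (Ψ v') s]
    exact sub_mem h3 (Submodule.mem_sup_right hmem)
  -- the local ring downstairs
  let Loc := Localization.AtPrime q
  haveI : IsNoetherianRing Loc := IsLocalization.isNoetherianRing q.primeCompl Loc inferInstance
  let N0 : Ideal Loc := Ideal.span (Set.range (algebraMap S Loc ∘ t))
  have hmax : IsLocalRing.maximalIdeal Loc ≤ N0 := by
    refine Submodule.le_of_le_smul_of_le_jacobson_bot (I := IsLocalRing.maximalIdeal Loc)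
      (IsNoetherian.noetherian _) (IsLocalRing.maximalIdeal_le_jacobson _) ?_
    have hqL : IsLocalRing.maximalIdeal Loc = q.map (algebraMap S Loc) :=
      (Localization.AtPrime.map_eq_maximalIdeal).symm
    conv_lhs => rw [hqL]
    rw [Ideal.map_le_iff_le_comap]
    intro s hs
    obtain ⟨a, ha, c, hc, rfl⟩ := Submodule.mem_sup.1 (hqgen hs)
    rw [Ideal.mem_comap, map_add]
    refine Submodule.add_mem_sup ?_ ?_
    · refine Submodule.span_induction ?_ ?_ ?_ ?_ ha
      · rintro _ ⟨i, rfl⟩; exact Ideal.subset_span ⟨i, rfl⟩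
      · rw [map_zero]; exact N0.zero_mem
      · intro p p' _ _ hp hp'; rw [map_add]; exact N0.add_mem hp hp'
      · intro r p _ hp
        rw [Algebra.smul_def, map_mul]
        exact N0.mul_mem_left _ hp
    · rw [smul_eq_mul, hqL, ← Ideal.map_mul, ← pow_two]
      exact Ideal.mem_map_of_mem _ hc
  have hspan : (IsLocalRing.maximalIdeal Loc).spanFinrank ≤ d := by
    have hN0 : IsLocalRing.maximalIdeal Loc = N0 := le_antisymm hmax (Ideal.span_le.2 (by
      rintro _ ⟨i, rfl⟩
      exact (IsLocalization.AtPrime.to_map_mem_maximal_iff Loc q _).2 (htq i)))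
    rw [hN0]
    refine (Submodule.spanFinrank_span_le_ncard_of_finite (Set.finite_range _)).trans ?_
    rw [← Set.image_univ]
    exact (Set.ncard_image_le Set.finite_univ).trans (by simp [Set.ncard_univ])
  show IsRegularLocalRing Loc
  refine IsRegularLocalRing.of_spanFinrank_maximalIdeal_le (R := Loc) ?_
  haveI : IsRegularLocalRing (Localization.AtPrime (RingHom.ker x)) := IsRegularRing.isRegularLocalRing_localization _
  have h1 := IsRegularLocalRing.spanFinrank_maximalIdeal (R := Localization.AtPrime (RingHom.ker x))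
  rw [IsLocalization.AtPrime.ringKrullDim_eq_height (RingHom.ker x)] at h1
  change ((IsLocalRing.maximalIdeal Loc).spanFinrank : WithBot ℕ∞) ≤ ringKrullDim Loc
  rw [IsLocalization.AtPrime.ringKrullDim_eq_height q]
  have h2 : ((RingHom.ker x).height : WithBot ℕ∞) ≤ (q.height : WithBot ℕ∞) :=
    WithBot.coe_le_coe.2 (height_le_height_comap (S := S) (RingHom.ker x))
  refine le_trans ?_ h2
  rw [← h1]
  exact_mod_cast (hspan.trans hdn).trans (hnG.trans hGcard)

end Main

end Groth.Agent.GLinCST
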